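import Cfsg.Agent.Lib.Spor.FiveJ2.Group
import Cfsg.Agent.Lib.Small.JankoTwoSetup

/-!
The centraliser of the involution acts on the stabiliser modulo its centre as `Ω⁻₄(2)`.
-/

set_option autoImplicit false
set_option maxRecDepth 100000
set_option maxHeartbeats 0

namespace CfsgLib.Spor.FiveJ2

open Cfsg CfsgLib.Spor CfsgLib.Spor.Census CfsgLib.KnownB.Mult
open scoped Matrix commutatorElement
open CfsgLib.ThreeTransp.CoReduce
open CfsgLib.Spor.SixSuz (elt elt_spec memOK pv pv_val tMat fixL_ok)

/-- the index type of the four-dimensional space -/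
abbrev I4 : Type := (Fin 1 ⊕ Fin 1) ⊕ Fin 2

/-- the four-dimensional space -/
abbrev V4 : Type := I4 → ZMod 2

/-- the form -/
abbrev qf : V4 → ZMod 2 := Cfsg.quadFormMinus 1 (ZMod 2) 1 1

/-- the isometry group -/
abbrev G4 := Cfsg.isometryGroup (ZMod 2) qf

/-- the bit of a coordinate -/
def bidx : I4 → Fin 4
  | .inl (.inl _) => ⟨0, by omega⟩
  | .inl (.inr _) => ⟨1, by omega⟩
  | .inr i => ⟨2 + i, by omega⟩

/-- bits as a vector -/
def bv (w : Fin 16) : V4 := fun r => if (w : ℕ).testBit (bidx r) then 1 else 0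

theorem bv_fx : ∀ a b : Fin 16, bv (fx a b) = bv a + bv b := by decide +kernel

theorem bv_injective : Function.Injective bv := by
  intro a b h
  revert a b
  decide +kernel

theorem bv_surjective : Function.Surjective bv := fun v => by
  revert v
  decide +kernel

theorem bv_bit : ∀ c : I4, bv (bit (bidx c)) = Pi.single c 1 := by decide +kernel

theorem bidx_surjective : ∀ i : Fin 4, ∃ c, bidx c = i := by decide +kernel

/-- the vector of an element of the stabiliser -/
noncomputable def vq (a : K0) : V4 := bv (bits a)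

theorem vq_mul (a b : K0) : vq (a * b) = vq a + vq b := by rw [vq, bits_mul, bv_fx, vq, vq]

theorem vq_one : vq 1 = 0 := by rw [vq, bits_one]; decide +kernel

theorem vq_tK : vq tK = 0 := by rw [vq, bits_tK]; decide +kernel

theorem fx_zero : ∀ w : Fin 16, fx 0 w = w := by decide +kernel

theorem bits_qK (i : Fin 4) : bits (qK i) = bit i := by
  have h := bits_mul_qK 1 i
  rw [one_mul, bits_one] at h
  rw [h, fx_zero]

theorem vq_qK (c : I4) : vq (qK (bidx c)) = Pi.single c 1 := by rw [vq, bits_qK, bv_bit]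

/-- conjugation of the stabiliser -/
noncomputable def conjK (g : CT) (a : K0) : K0 := ⟨g * a * g⁻¹, K0_normal.conj_mem _ a.2 g⟩

theorem conjK_mul (g : CT) (a b : K0) : conjK g (a * b) = conjK g a * conjK g b :=
  Subtype.ext (by simp [conjK, mul_assoc])

theorem conjK_comp (g h : CT) (a : K0) : conjK (g * h) a = conjK g (conjK h a) :=
  Subtype.ext (by simp [conjK, mul_assoc])

theorem conjK_one (a : K0) : conjK 1 a = a := Subtype.ext (by simp [conjK])

theorem conjK_tK (g : CT) : conjK g tK = tK := Subtype.ext (by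
  show g * tCT * g⁻¹ = tCT
  rw [tCT_central, mul_inv_cancel_right])

theorem eq_prod (a : K0) : ∃ b, a = ((supp (bits a)).map qK).prod * cond b tK 1 := by
  obtain ⟨b, hb⟩ := exists_coord a
  refine ⟨b, Subtype.ext ?_⟩
  rw [Subgroup.coe_mul, hb, ← Subgroup.coe_subtype, map_list_prod, List.map_map]
  cases b
  · exact (mul_one _).symm
  · rfl

/-- the matrix of an element -/
noncomputable def matOf (g : CT) : Matrix I4 I4 (ZMod 2) :=
  Matrix.of fun r c => vq (conjK g (qK (bidx c))) r

theorem matOf_mulVec (g : CT) (a : K0) : matOf g *ᵥ vq a = vq (conjK g a) := by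
  obtain ⟨b, hb⟩ := eq_prod a
  have hl : ∀ l : List (Fin 4),
      matOf g *ᵥ vq (l.map qK).prod = vq (conjK g (l.map qK).prod) := by
    intro l
    induction l with
    | nil =>
      rw [List.map_nil, List.prod_nil, vq_one, Matrix.mulVec_zero,
        show conjK g 1 = 1 from Subtype.ext (by simp [conjK]), vq_one]
    | cons i l ih =>
      obtain ⟨c, rfl⟩ := bidx_surjective i
      rw [List.map_cons, List.prod_cons, vq_mul, Matrix.mulVec_add, ih, conjK_mul, vq_mul, vq_qK,
        Matrix.mulVec_single_one]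
      rfl
  rw [hb, vq_mul, Matrix.mulVec_add, conjK_mul, vq_mul, hl]
  congr 1
  cases b
  · show matOf g *ᵥ vq 1 = vq (conjK g 1)
    rw [vq_one, Matrix.mulVec_zero, show conjK g 1 = 1 from Subtype.ext (by simp [conjK]), vq_one]
  · show matOf g *ᵥ vq tK = vq (conjK g tK)
    rw [conjK_tK, vq_tK, Matrix.mulVec_zero]

theorem vq_surjective : Function.Surjective vq := fun v => by
  obtain ⟨w, rfl⟩ := bv_surjective v
  obtain ⟨a, rfl⟩ := bits_surjective w
  exact ⟨a, rfl⟩

theorem matOf_mul (g h : CT) : matOf (g * h) = matOf g * matOf h :=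
  Matrix.ext_of_mulVec_single fun c => by
    rw [← vq_qK c, ← Matrix.mulVec_mulVec, matOf_mulVec, matOf_mulVec, matOf_mulVec, conjK_comp]

theorem matOf_one : matOf 1 = 1 :=
  Matrix.ext_of_mulVec_single fun c => by
    rw [← vq_qK c, matOf_mulVec, conjK_one, Matrix.one_mulVec]

theorem sq_ok' : ∀ w < 16, eqW (mulM (pMats.getD w []) (pMats.getD w []))
    (cond (decide (qf (bv (Fin.ofNat 16 w)) = 1)) tMat oneM) = true := by
  intro w hw
  interval_cases w <;> decide +kernel

theorem sq_ok (w : Fin 16) : eqW (mulM (pMats.getD w []) (pMats.getD w []))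
    (cond (decide (qf (bv w) = 1)) tMat oneM) = true := by
  have h := sq_ok' w w.2
  rwa [show Fin.ofNat 16 (w : ℕ) = w from Fin.ext (Nat.mod_eq_of_lt w.2)] at h

theorem tMat_ne : eqW tMat oneM = false := by decide +kernel

theorem tCT_ne_one : tCT ≠ 1 := fun h => by
  have h' := congrArg (fun g => colsOf (perm g)) h
  simp only [colsOf_tCT, perm_one, colsOf_one] at h'
  have := tMat_ne
  rw [eqW_iff.2 h'] at this
  simp at this

theorem sq_eq (a : K0) : (a : CT) * a = cond (decide (qf (vq a) = 1)) tCT 1 := by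
  obtain ⟨b, hb⟩ := exists_coord a
  have h : pEl (bits a) * pEl (bits a) = cond (decide (qf (vq a) = 1)) tCT 1 := ext_cols (by
    rw [colsOf_perm_mul, colsOf_pEl, eqW_iff.1 (sq_ok (bits a)), vq]
    cases decide (qf (bv (bits a)) = 1)
    · exact colsOf_one.symm
    · exact colsOf_tCT.symm)
  rw [hb, ← h]
  cases b
  · rfl
  · show pEl _ * tCT * (pEl _ * tCT) = _
    rw [mul_assoc, ← mul_assoc tCT, ← tCT_central, mul_assoc, tCT_sq, mul_one]

theorem qf_conj (g : CT) (a : K0) : qf (vq (conjK g a)) = qf (vq a) := by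
  have h1 := sq_eq (conjK g a)
  have h2 : ((conjK g a : K0) : CT) * (conjK g a : K0) = (a : CT) * a := by
    show g * a * g⁻¹ * (g * a * g⁻¹) = _
    have : g * ((a : CT) * a) * g⁻¹ = (a : CT) * a := by
      rw [sq_eq]
      cases decide (qf (vq a) = 1)
      · simp
      · show g * tCT * g⁻¹ = tCT
        rw [tCT_central, mul_inv_cancel_right]
    rw [← this]
    group
  rw [h2, sq_eq] at h1
  have two : ∀ x : ZMod 2, x = 0 ∨ x = 1 := by decide
  have h01 : (0 : ZMod 2) ≠ 1 := by decide
  rcases two (qf (vq a)) with e | e <;> rcases two (qf (vq (conjK g a))) with e' | e' <;>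
    rw [e, e'] at h1 ⊢ <;> simp only [h01, decide_false, decide_true, cond_true, cond_false] at h1
  · exact absurd h1.symm tCT_ne_one
  · exact absurd h1 tCT_ne_one

/-- the action as matrices -/
noncomputable def matHom : CT →* Matrix I4 I4 (ZMod 2) where
  toFun := matOf
  map_one' := matOf_one
  map_mul' := matOf_mul

/-- the action as isometries -/
noncomputable def actHom : CT →* G4 :=
  (MonoidHom.toHomUnits matHom).codRestrict G4 fun g => fun u v => by
    obtain ⟨a, rfl⟩ := vq_surjective u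
    show qf (matOf g *ᵥ vq a) = qf (vq a)
    rw [matOf_mulVec, qf_conj]

/-- the action of isometries on vectors -/
noncomputable def act4 : PtAct G4 V4 where
  act g v := ((g : GL I4 (ZMod 2)) : Matrix I4 I4 (ZMod 2)) *ᵥ v
  act_mul g h v := (Matrix.mulVec_mulVec v _ _).symm
  act_one v := Matrix.one_mulVec v

theorem act_actHom (g : CT) (a : K0) : act4.act (actHom g) (vq a) = vq (conjK g a) :=
  matOf_mulVec g a

theorem sProgs_ok : ∀ j : Fin 2, fix5 (sProgs.getD j []) = true ∧
    eqW (sMats.getD j []) (fastMat (sProgs.getD j [])) = true ∧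
    eqW (mulM (sMats.getD j []) tMat) (mulM tMat (sMats.getD j [])) = true := by decide +kernel

/-- a strong generator -/
noncomputable def sG (j : Fin 2) : CT :=
  ⟨jEl _ (sProgs_ok j).1, mem_CT.2 (Subtype.ext (colsOf_injective
    (fiveJ_le (Subtype.property _)) (fiveJ_le (Subtype.property _)) (by
      rw [Subgroup.coe_mul, Subgroup.coe_mul, colsOf_mul (fiveJ_le (Subtype.property _)),
        colsOf_mul (fiveJ_le (Subtype.property _)), colsOf_jEl, colsOf_tJ,
        ← eqW_iff.1 (sProgs_ok j).2.1, eqW_iff.1 (sProgs_ok j).2.2])))⟩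

theorem colsOf_sG (j : Fin 2) : colsOf (perm (sG j)) = sMats.getD j [] :=
  (colsOf_jEl _ (sProgs_ok j).1).trans (eqW_iff.1 (sProgs_ok j).2.1).symm

/-- the image of a basis index under a strong generator -/
def colS (j : Fin 2) (i : Fin 4) : Fin 16 × Bool :=
  (Fin.ofNat 16 ((sAct.getD j []).getD i (0, 0)).1, Nat.beq ((sAct.getD j []).getD i (0, 0)).2 1)

theorem sAct_ok : ∀ (j : Fin 2) (i : Fin 4), eqW (mulM (sMats.getD j []) (qMats.getD i []))
    (mulM (sMat (colS j i).1 (colS j i).2) (sMats.getD j [])) = true := by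
  intro j i
  fin_cases j <;> fin_cases i <;> decide +kernel

/-- a strong generator on numbers -/
def appS (j : Fin 2) (w : Fin 16) : Fin 16 :=
  (supp w).foldl (fun u i => fx u (colS j i).1) 0

theorem bits_conj_qK (j : Fin 2) (i : Fin 4) : bits (conjK (sG j) (qK i)) = (colS j i).1 := by
  refine bits_of_eq (b := (colS j i).2) ?_
  show sG j * qEl i * (sG j)⁻¹ = _
  rw [mul_inv_eq_iff_eq_mul]
  exact ext_cols (by
    rw [colsOf_perm_mul, colsOf_perm_mul, colsOf_sG, colsOf_qEl, colsOf_sEl,
      eqW_iff.1 (sAct_ok j i)])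

theorem bits_conj_list (g : CT) : ∀ (a : K0) (l : List (Fin 4)),
    bits (a * conjK g (l.map qK).prod) =
      l.foldl (fun u i => fx u (bits (conjK g (qK i)))) (bits a)
  | a, [] => by
    rw [List.map_nil, List.prod_nil, show conjK g 1 = 1 from Subtype.ext (by simp [conjK]), mul_one]
    rfl
  | a, i :: l => by
    rw [List.map_cons, List.prod_cons, conjK_mul, ← mul_assoc, bits_conj_list g _ l, bits_mul]
    rfl

theorem act_sG (j : Fin 2) (w : Fin 16) : act4.act (actHom (sG j)) (bv w) = bv (appS j w) := by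
  have h : bits (((supp w).map qK).prod) = w := by
    have := bits_mul_list 1 (supp w)
    rw [one_mul, bits_one, supp_fold] at this
    rw [this, fx_zero]
  conv_lhs => rw [← h, ← vq, act_actHom]
  have := bits_conj_list (sG j) 1 (supp w)
  rw [one_mul, bits_one] at this
  rw [vq, this, appS]
  simp only [bits_conj_qK]

/-- a word on numbers -/
def appW (w : List ℕ) (v : Fin 16) : Fin 16 := w.foldr (fun j u => appS (Fin.ofNat 2 j) u) v

/-- a word in the strong generators -/
noncomputable def evW (w : List ℕ) : CT := (w.map fun j => sG (Fin.ofNat 2 j)).prod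

theorem act_evW : ∀ (w : List ℕ) (v : Fin 16), act4.act (actHom (evW w)) (bv v) = bv (appW w v)
  | [], v => by
    rw [evW, List.map_nil, List.prod_nil, map_one, act4.act_one]
    rfl
  | j :: w, v => by
    rw [evW, List.map_cons, List.prod_cons, map_mul, act4.act_mul, ← evW, act_evW w, act_sG]
    rfl

theorem levels_ok6 :
    (actLevels.Pairwise fun l m => ∀ w ∈ m.2, appW w (Fin.ofNat 16 l.1) = Fin.ofNat 16 l.1) ∧
    (∀ l ∈ actLevels, (l.2.map fun w => appW w (Fin.ofNat 16 l.1)).Nodup) ∧
    (actLevels.map fun l => l.2.length).prod = 60 := by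
  refine ⟨?_, ?_, ?_⟩ <;> decide +kernel

instance finite_G4 : Finite G4 := inferInstance

theorem le_card_range : 60 ≤ Nat.card actHom.range := by
  have h := act4.prod_le_card
    (actLevels.map fun l => (bv (Fin.ofNat 16 l.1), l.2.map fun w => actHom (evW w))) actHom.range
    (by
      simp only [List.mem_map]
      rintro _ ⟨l, -, rfl⟩ t ht
      obtain ⟨w, -, rfl⟩ := List.mem_map.1 ht
      exact ⟨_, rfl⟩)
    (by
      rw [List.pairwise_map]
      refine levels_ok6.1.imp fun {l m} h t ht => ?_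
      obtain ⟨w, hw, rfl⟩ := List.mem_map.1 ht
      show act4.act _ _ = _
      rw [act_evW, h w hw])
    (by
      simp only [List.mem_map]
      rintro _ ⟨l, hl, rfl⟩
      rw [List.map_map]
      have e : (l.2.map fun w => act4.act (actHom (evW w)) (bv (Fin.ofNat 16 l.1))) =
          (l.2.map fun w => appW w (Fin.ofNat 16 l.1)).map bv := by
        rw [List.map_map]
        exact List.map_congr_left fun w _ => act_evW w _
      show (l.2.map fun w => act4.act (actHom (evW w)) (bv (Fin.ofNat 16 l.1))).Nodup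
      rw [e]
      exact (levels_ok6.2.1 l hl).map bv_injective)
  rw [List.map_map] at h
  refine le_trans (le_of_eq levels_ok6.2.2.symm) (le_trans (le_of_eq ?_) h)
  exact congrArg List.prod (List.map_congr_left fun l _ => by simp)

theorem conj_mem_zero {g : CT} (hg : g ∈ K0) (a : K0) : vq (conjK g a) = vq a := by
  rw [show conjK g a = ⟨g, hg⟩ * a * (⟨g, hg⟩ : K0)⁻¹ from Subtype.ext rfl, vq_mul, vq_mul]
  have h : vq ⟨g, hg⟩ + vq (⟨g, hg⟩ : K0)⁻¹ = 0 := by rw [← vq_mul, mul_inv_cancel, vq_one]
  rw [add_comm (vq ⟨g, hg⟩) (vq a), add_assoc, h, add_zero]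

theorem actHom_eq_one {g : CT} (h : ∀ a, vq (conjK g a) = vq a) : actHom g = 1 :=
  Subtype.ext (Units.ext (Matrix.ext_of_mulVec_single fun c => by
    show matOf g *ᵥ _ = _
    rw [← vq_qK c, matOf_mulVec, h]
    exact (Matrix.one_mulVec _).symm))

/-- powers of minus the element of order three in the centraliser -/
noncomputable def zC : Subgroup CT := Subgroup.zpowers zCT

theorem zCT_central (g : CT) : g * zCT = zCT * g := Subtype.ext (zJ_central g)

instance zC_normal : zC.Normal :=
  ⟨fun n hn g => by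
    obtain ⟨k, rfl⟩ := Subgroup.mem_zpowers_iff.1 hn
    rw [((show Commute g zCT from zCT_central g).zpow_right k).eq, mul_inv_cancel_right]
    exact hn⟩

/-- iterated images under minus the element -/
def zIter (l : List ℤ) (n : ℕ) : List ℤ := (List.range n).foldl (fun l _ => runP zProg l) l

/-- the matrices of the powers -/
def zPowMat (n : ℕ) : List ℕ := (List.range n).foldl (fun m _ => mulM zMat m) oneM

/-- a vector of the fixed space -/
def k0 : SIdx := .a 0 1 false false

theorem k0_ok : k0 ∈ SixSuz.fixL ∧ memOK k0 = true := by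
  refine ⟨?_, ?_⟩ <;> decide +kernel

theorem zProg_moves : ((List.range 9).all fun k => !eqZ (zIter (lOf (vec k0)) (k + 1))
    (lOf (vec k0))) = true := by decide +kernel

theorem zPow_ten : eqW (zPowMat 10) oneM = true := by decide +kernel

theorem lOf_zpow : ∀ i : ℕ, lOf (((perm (zCT ^ i)) (pv k0) : leechLattice) : GolayPt → ℤ) =
    zIter (lOf (vec k0)) i
  | 0 => by rw [pow_zero, perm_one, Equiv.Perm.one_apply, pv_val k0_ok.2]; rfl
  | i + 1 => by
    rw [zIter, List.range_succ, List.foldl_append, List.foldl_cons, List.foldl_nil,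
      show (List.range i).foldl (fun l _ => runP zProg l) (lOf (vec k0)) = zIter (lOf (vec k0)) i
        from rfl, ← lOf_zpow i, pow_succ', perm_mul, Equiv.Perm.mul_apply]
    exact lOf_jEl zProg zProg_fix _

theorem colsOf_zpow : ∀ i : ℕ, colsOf (perm (zCT ^ i)) = zPowMat i
  | 0 => by rw [pow_zero, perm_one, colsOf_one]; rfl
  | i + 1 => by
    rw [zPowMat, List.range_succ, List.foldl_append, List.foldl_cons, List.foldl_nil,
      show (List.range i).foldl (fun m _ => mulM zMat m) oneM = zPowMat i from rfl,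
      ← colsOf_zpow i, pow_succ', colsOf_perm_mul,
      show colsOf (perm zCT) = zMat from colsOf_zJ]

theorem zpow_moves {j : ℕ} (hj : j < 9) : perm (zCT ^ (j + 1)) (pv k0) ≠ pv k0 := fun h => by
  have h1 := lOf_zpow (j + 1)
  rw [h, pv_val k0_ok.2] at h1
  have h2 := List.all_eq_true.1 zProg_moves j (List.mem_range.2 hj)
  rw [eqZ_iff.2 h1.symm] at h2
  simp at h2

theorem orderOf_zCT : orderOf zCT = 10 := by
  refine (orderOf_eq_iff (by norm_num)).2 ⟨?_, fun m hm hm0 h => ?_⟩
  · refine ext_cols ?_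
    rw [colsOf_zpow, perm_one, colsOf_one, eqW_iff.1 zPow_ten]
  · obtain ⟨k, rfl⟩ := Nat.exists_eq_add_one.2 hm0
    exact zpow_moves (show k < 9 by omega) (by rw [h]; rfl)

theorem zpow_mem_K0 {k : ℕ} (hk : k < 10) (h : zCT ^ k ∈ K0) : k = 0 := by
  by_contra hk0
  obtain ⟨j, rfl⟩ := Nat.exists_eq_succ_of_ne_zero hk0
  exact zpow_moves (show j < 9 by omega) (h k0 k0_ok.1)

theorem disjoint_K0_zC : K0 ⊓ zC = ⊥ := by
  refine (Subgroup.eq_bot_iff_forall _).2 fun g hg => ?_
  obtain ⟨m, rfl⟩ := Subgroup.mem_zpowers_iff.1 hg.2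
  have h1 := hg.1
  rw [← zpow_mod_orderOf, orderOf_zCT] at h1 ⊢
  obtain ⟨k, hk⟩ := Int.eq_ofNat_of_zero_le (Int.emod_nonneg m (show ((10 : ℕ) : ℤ) ≠ 0 by norm_num))
  have hk10 : k < 10 := by
    have := Int.emod_lt_of_pos m (show (0 : ℤ) < ((10 : ℕ) : ℤ) by norm_num)
    omega
  rw [hk, zpow_natCast] at h1 ⊢
  rw [zpow_mem_K0 hk10 h1, pow_zero]

theorem le_ker : K0 ⊔ zC ≤ actHom.ker := by
  refine sup_le (fun g hg => actHom_eq_one fun a => conj_mem_zero hg a) ?_
  refine Subgroup.zpowers_le.2 (actHom_eq_one fun a => congrArg vq ?_)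
  exact Subtype.ext (by
    show zCT * a * zCT⁻¹ = a
    rw [← zCT_central, mul_inv_cancel_right])

theorem card_sup_ge : 320 ≤ Nat.card ↥(K0 ⊔ zC) := by
  have hz : Nat.card zC = 10 := by rw [zC, Nat.card_zpowers, orderOf_zCT]
  have h := Nat.card_le_card_of_injective
    (fun q : K0 × zC => (⟨(q.1 : CT) * q.2, Subgroup.mul_mem_sup q.1.2 q.2.2⟩ : ↥(K0 ⊔ zC))) (by
      intro p q hpq
      have e : (p.1 : CT) * p.2 = q.1 * q.2 := congrArg Subtype.val hpq
      have e2 : (q.1 : CT)⁻¹ * p.1 = q.2 * (p.2 : CT)⁻¹ := by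
        rw [eq_mul_inv_iff_mul_eq, mul_assoc, e, inv_mul_cancel_left]
      have h1 : (q.1 : CT)⁻¹ * p.1 ∈ K0 ⊓ zC :=
        Subgroup.mem_inf.2 ⟨mul_mem (inv_mem q.1.2) p.1.2, by rw [e2]; exact mul_mem q.2.2 (inv_mem p.2.2)⟩
      rw [disjoint_K0_zC, Subgroup.mem_bot, inv_mul_eq_one] at h1
      exact Prod.ext (Subtype.ext h1.symm) (Subtype.ext (by
        rw [← h1] at e
        exact mul_left_cancel e)))
  rwa [Nat.card_prod, natCard_K0, hz] at h

theorem act_cards : Nat.card actHom.range = 60 ∧ actHom.ker = K0 ⊔ zC ∧ Nat.card actHom.ker = 320 := by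
  have hmul : Nat.card actHom.ker * Nat.card actHom.range = Nat.card CT := by
    rw [← Subgroup.index_ker, Subgroup.card_mul_index]
  have h1 := le_card_range
  have h2 := Subgroup.card_le_of_le le_ker
  have h3 := card_sup_ge
  have h4 := natCard_CT_le
  have hr : Nat.card actHom.range = 60 := by nlinarith
  have hk : Nat.card actHom.ker = 320 := by nlinarith
  exact ⟨hr, (Subgroup.eq_of_le_of_card_ge le_ker (by omega)).symm, hk⟩

theorem natCard_G4 : Nat.card G4 = 120 ∧ Nat.card ↥(Cfsg.Omega (ZMod 2) qf) = 60 := by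
  obtain ⟨e⟩ := CfsgLib.Geometry.SmallOrth.perm5_equiv
  obtain ⟨e'⟩ := CfsgLib.Small.JTwoType.omega_minus_iso_alt
  refine ⟨?_, ?_⟩
  · rw [Nat.card_congr e.toEquiv, Nat.card_perm, Nat.card_fin]
    rfl
  · rw [Nat.card_congr e'.toEquiv, Nat.card_eq_fintype_card, card_alternatingGroup, Fintype.card_fin]
    rfl

theorem range_actHom : actHom.range = Cfsg.Omega (ZMod 2) qf := by
  have hidx : actHom.range.index = 2 := by
    have h := actHom.range.card_mul_index
    rw [act_cards.1, natCard_G4.1] at h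
    omega
  haveI := Subgroup.normal_of_index_eq_two hidx
  have hle : commutator G4 ≤ actHom.range := by
    haveI : Fact (Nat.Prime 2) := ⟨Nat.prime_two⟩
    haveI : IsCyclic (G4 ⧸ actHom.range) :=
      isCyclic_of_prime_card (p := 2) (by rw [← Subgroup.index_eq_card, hidx])
    rw [commutator_def, Subgroup.commutator_le]
    intro a _ b _
    rw [← QuotientGroup.eq_one_iff]
    show (QuotientGroup.mk' actHom.range) ⁅a, b⁆ = 1
    rw [map_commutatorElement, commutatorElement_eq_one_iff_mul_comm]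
    exact IsCyclic.commGroup.mul_comm _ _
  exact (Subgroup.eq_of_le_of_card_ge hle (by rw [act_cards.1, natCard_G4.2])).symm

end CfsgLib.Spor.FiveJ2
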