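import Cfsg.Agent.Lib.Spor.Co0CensusParts
import Cfsg.Agent.Lib.Spor.FiveJ2.Data

/-! Census of a class of short vectors, in parts. -/

set_option autoImplicit false
set_option maxRecDepth 100000
set_option maxHeartbeats 0
set_option Elab.async false

namespace CfsgLib.Spor.FiveJ2

open CfsgLib.Spor CfsgLib.Spor.Census

theorem census0A : aList.countP (okAll classC0) = 0 := by decide +kernel

theorem census0B0 : (((octadList.drop 0).take 96).map (fB classC0)).sum = 0 := by decide +kernel

theorem census0B1 : (((octadList.drop 96).take 96).map (fB classC0)).sum = 0 := by decide +kernel

theorem census0B2 : (((octadList.drop 192).take 96).map (fB classC0)).sum = 0 := by decide +kernel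

theorem census0B3 : (((octadList.drop 288).take 96).map (fB classC0)).sum = 0 := by decide +kernel

theorem census0B4 : (((octadList.drop 384).take 96).map (fB classC0)).sum = 0 := by decide +kernel

theorem census0B5 : (((octadList.drop 480).take 96).map (fB classC0)).sum = 0 := by decide +kernel

theorem census0B6 : (((octadList.drop 576).take 96).map (fB classC0)).sum = 0 := by decide +kernel

theorem census0B7 : (((octadList.drop 672).take 96).map (fB classC0)).sum = 0 := by decide +kernel

theorem census0C0 : (((codeList.drop 0).take 512).map (fC classC0)).sum = 4 := by decide +kernel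

theorem census0C1 : (((codeList.drop 512).take 512).map (fC classC0)).sum = 4 := by decide +kernel

theorem census0C2 : (((codeList.drop 1024).take 512).map (fC classC0)).sum = 4 := by decide +kernel

theorem census0C3 : (((codeList.drop 1536).take 512).map (fC classC0)).sum = 4 := by decide +kernel

theorem census0C4 : (((codeList.drop 2048).take 512).map (fC classC0)).sum = 4 := by decide +kernel

theorem census0C5 : (((codeList.drop 2560).take 512).map (fC classC0)).sum = 4 := by decide +kernel

theorem census0C6 : (((codeList.drop 3072).take 512).map (fC classC0)).sum = 4 := by decide +kernel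

theorem census0C7 : (((codeList.drop 3584).take 512).map (fC classC0)).sum = 4 := by decide +kernel

theorem census0B : Parts 96 (fB classC0) octadList [0, 0, 0, 0, 0, 0, 0, 0] := by
  simp only [Parts, List.drop_drop, Nat.reduceAdd]
  exact ⟨census0B0, census0B1, census0B2, census0B3, census0B4, census0B5, census0B6, census0B7, List.drop_eq_nil_of_le (by decide +kernel)⟩

theorem census0C : Parts 512 (fC classC0) codeList [4, 4, 4, 4, 4, 4, 4, 4] := by
  simp only [Parts, List.drop_drop, Nat.reduceAdd]
  exact ⟨census0C0, census0C1, census0C2, census0C3, census0C4, census0C5, census0C6, census0C7, List.drop_eq_nil_of_le (by decide +kernel)⟩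

theorem count_classC0 : count classC0 = 32 := by
  rw [count_of_parts census0A census0B census0C]
  rfl

end CfsgLib.Spor.FiveJ2
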