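import Cfsg.Agent.Lib.Spor.SixSuz.InvolBound
import Cfsg.Agent.Lib.Spor.FiveJ2.Census0
import Cfsg.Agent.Lib.Spor.FiveJ2.Census1

/-!
The centraliser in `Co0` of an element of order five without fixed vectors, and upper bounds for the
centraliser of an involution in it and for the pointwise stabiliser of the short vectors that
involution fixes.
-/

set_option autoImplicit false
set_option maxRecDepth 100000
set_option maxHeartbeats 0

namespace CfsgLib.Spor.FiveJ2

open Cfsg CfsgLib.Spor CfsgLib.Spor.Census CfsgLib.KnownB.Mult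
open CfsgLib.ThreeTransp.CoReduce
open CfsgLib.Spor.SixSuz (elt elt_spec memOK mem_allList key incr clsOK clsVec_eq pv pv_val tMat fixL
  condsOut fixL_ok fixL_inc fixL_len mem_class mem_condsOut_of_fixed lOf_tEl colsOf_tEl combAt
  redMap_eq_one_of_span)

theorem xProg_ok : xProg.all Stp.ok = true := by decide +kernel

theorem xMat_ok : eqW xMat (fastMat xProg) = true := by decide +kernel

/-- the element of order five -/
noncomputable def xEl : Equiv.Perm leechLattice := (elt xProg : Equiv.Perm leechLattice)

theorem xEl_mem : xEl ∈ Co0 := (elt xProg).2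

theorem colsOf_xEl : colsOf xEl = xMat := by rw [xEl, (elt_spec xProg_ok).2, eqW_iff.1 xMat_ok]

theorem lOf_xEl (v : leechLattice) :
    lOf ((xEl v : leechLattice) : GolayPt → ℤ) = runP xProg (lOf (v : GolayPt → ℤ)) :=
  (elt_spec xProg_ok).1 v

/-- the centraliser of the element of order five -/
noncomputable def fiveJ : Subgroup (Equiv.Perm leechLattice) :=
  Co0 ⊓ Subgroup.centralizer {xEl}

theorem fiveJ_le : fiveJ ≤ Co0 := inf_le_left

instance finite_fiveJ : Finite fiveJ := by
  have : Finite Co0 := Nat.finite_of_card_ne_zero (by rw [natCard_Co0]; norm_num)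
  exact Finite.of_injective _ (Subgroup.inclusion_injective fiveJ_le)

/-- the test that a program commutes with the element -/
def fix5 (P : List Stp) : Bool :=
  P.all Stp.ok && eqW (mulM (fastMat P) xMat) (mulM xMat (fastMat P))

theorem mem_of_fix5 {P : List Stp} (h : fix5 P = true) :
    (elt P : Equiv.Perm leechLattice) ∈ fiveJ := by
  simp only [fix5, Bool.and_eq_true, eqW_iff] at h
  refine ⟨(elt P).2, Subgroup.mem_centralizer_singleton_iff.2 ?_⟩
  refine colsOf_injective (Co0.mul_mem (elt P).2 xEl_mem) (Co0.mul_mem xEl_mem (elt P).2) ?_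
  rw [colsOf_mul (elt P).2, colsOf_mul xEl_mem, colsOf_xEl, (elt_spec h.1).2, h.2]

/-- the element of the centraliser given by a program -/
noncomputable def jEl (P : List Stp) (h : fix5 P = true) : fiveJ :=
  ⟨(elt P : Equiv.Perm leechLattice), mem_of_fix5 h⟩

theorem colsOf_jEl (P : List Stp) (h : fix5 P = true) :
    colsOf (jEl P h : Equiv.Perm leechLattice) = fastMat P :=
  (elt_spec (Bool.and_eq_true_iff.1 h).1).2

theorem lOf_jEl (P : List Stp) (h : fix5 P = true) (v : leechLattice) :
    lOf (((jEl P h : Equiv.Perm leechLattice) v : leechLattice) : GolayPt → ℤ) =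
      runP P (lOf (v : GolayPt → ℤ)) :=
  (elt_spec (Bool.and_eq_true_iff.1 h).1).1 v

theorem commute_tMat : eqW (mulM tMat xMat) (mulM xMat tMat) = true := by decide +kernel

/-- the involution -/
noncomputable def tJ : fiveJ :=
  ⟨(SixSuz.tEl : Equiv.Perm leechLattice), SixSuz.sixSuz_le SixSuz.tEl.2,
    Subgroup.mem_centralizer_singleton_iff.2 (colsOf_injective
      (Co0.mul_mem (SixSuz.sixSuz_le SixSuz.tEl.2) xEl_mem)
      (Co0.mul_mem xEl_mem (SixSuz.sixSuz_le SixSuz.tEl.2)) (by
        rw [colsOf_mul (SixSuz.sixSuz_le SixSuz.tEl.2), colsOf_mul xEl_mem, colsOf_xEl, colsOf_tEl,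
          eqW_iff.1 commute_tMat]))⟩

/-- inner product of coordinate lists -/
def dotX (a b : List ℤ) : ℤ := ((List.range 24).map fun j => a.getD j 0 * b.getD j 0).sum

theorem dotX_lOf (x y : GolayPt → ℤ) : dotX (lOf x) (lOf y) = dotInt x y := by
  have e : ∀ i ∈ List.range 24, (lOf x).getD i 0 * (lOf y).getD i 0 = x (pt i) * y (pt i) := by
    intro i hi
    rw [lOf_getD x (List.mem_range.1 hi), lOf_getD y (List.mem_range.1 hi)]
  rw [dotX, List.map_congr_left e]
  have h : ((List.range 24).map pt).toFinset = Finset.univ := by decide +kernel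
  have hn : ((List.range 24).map pt).Nodup := by decide +kernel
  show _ = ∑ p, x p * y p
  rw [← h, List.sum_toFinset _ hn, List.map_map]
  rfl

/-- the inner product with the image -/
def selfDot (k : SIdx) : ℤ := dotX (lOf (vec k)) (runP xProg (lOf (vec k)))

/-- a vector with its images -/
abbrev Node := List (SIdx × Cls)

/-- the entries of nodes -/
def flat (L : List Node) : List (SIdx × Cls) := L.flatMap id

/-- an image under one of the two elements -/
def linkB (u w : SIdx) : Bool :=
  eqZ (runP xProg (lOf (vec u))) (lOf (vec w)) || eqZ (runP SixSuz.tProg (lOf (vec u))) (lOf (vec w))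

/-- each later vector is an image of an earlier one -/
def linkOK : List SIdx → List SIdx → Bool
  | _, [] => true
  | s, w :: r => (s.any fun u => linkB u w) && linkOK (w :: s) r

/-- a node is well formed -/
def nodeOK : Node → Bool
  | [] => false
  | h :: r => ((h :: r).all fun p => memOK p.1 && clsOK p.1 p.2) && linkOK [h.1] (r.map Prod.fst)

/-- the elements commuting with both elements and fixing vectors -/
noncomputable def fixP : List SIdx → Subgroup (Equiv.Perm leechLattice)
  | [] => fiveJ ⊓ Subgroup.centralizer {(tJ : Equiv.Perm leechLattice)}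
  | k :: r => fixP r ⊓ MulAction.stabilizer (Equiv.Perm leechLattice) (pv k)

theorem mem_fixP : ∀ {L : List SIdx} {g : Equiv.Perm leechLattice}, g ∈ fixP L →
    g ∈ fixP [] ∧ ∀ k ∈ L, g (pv k) = pv k
  | [], g, h => ⟨h, by simp⟩
  | e :: r, g, h => by
    obtain ⟨h1, h2⟩ := mem_fixP (Subgroup.mem_inf.1 h).1
    refine ⟨h1, fun d hd => ?_⟩
    rcases List.mem_cons.1 hd with rfl | hd
    · exact MulAction.mem_stabilizer_iff.1 (Subgroup.mem_inf.1 h).2
    · exact h2 d hd

theorem fixP_of : ∀ {L : List SIdx} {g : Equiv.Perm leechLattice}, g ∈ fixP [] →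
    (∀ k ∈ L, g (pv k) = pv k) → g ∈ fixP L
  | [], _, h, _ => h
  | k :: r, _, h, hf => Subgroup.mem_inf.2 ⟨fixP_of h fun d hd => hf d (List.mem_cons_of_mem _ hd),
      MulAction.mem_stabilizer_iff.2 (hf k List.mem_cons_self)⟩

theorem base_spec {g : Equiv.Perm leechLattice} (h : g ∈ fixP []) :
    g ∈ Co0 ∧ g * xEl = xEl * g ∧
      g * (tJ : Equiv.Perm leechLattice) = (tJ : Equiv.Perm leechLattice) * g :=
  ⟨(Subgroup.mem_inf.1 (Subgroup.mem_inf.1 h).1).1,
    Subgroup.mem_centralizer_singleton_iff.1 (Subgroup.mem_inf.1 (Subgroup.mem_inf.1 h).1).2,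
    Subgroup.mem_centralizer_singleton_iff.1 (Subgroup.mem_inf.1 h).2⟩

theorem fix_of_link {g : Equiv.Perm leechLattice} (hg : g ∈ fixP []) {u w : SIdx}
    (hu : memOK u = true) (hw : memOK w = true) (h : linkB u w = true)
    (hf : g (pv u) = pv u) : g (pv w) = pv w := by
  obtain ⟨-, hx, ht⟩ := base_spec hg
  simp only [linkB, Bool.or_eq_true, eqZ_iff] at h
  rcases h with h | h
  · have e : xEl (pv u) = pv w :=
      Subtype.ext (lOf_inj (by rw [lOf_xEl, pv_val hu, pv_val hw, h]))
    have := congrArg (fun f : Equiv.Perm leechLattice => f (pv u)) hx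
    simp only [Equiv.Perm.mul_apply, e, hf] at this
    exact this
  · have e : (tJ : Equiv.Perm leechLattice) (pv u) = pv w :=
      Subtype.ext (lOf_inj (by
        show lOf (((SixSuz.tEl : Equiv.Perm leechLattice) (pv u) : leechLattice) : GolayPt → ℤ) = _
        rw [lOf_tEl, pv_val hu, pv_val hw, h]))
    have := congrArg (fun f : Equiv.Perm leechLattice => f (pv u)) ht
    simp only [Equiv.Perm.mul_apply, e, hf] at this
    exact this

theorem fix_linked {g : Equiv.Perm leechLattice} (hg : g ∈ fixP []) :
    ∀ (s r : List SIdx), linkOK s r = true → (∀ k ∈ s ++ r, memOK k = true) →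
      (∀ k ∈ s, g (pv k) = pv k) → ∀ k ∈ r, g (pv k) = pv k
  | _, [], _, _, _ => by simp
  | s, w :: r, h, hm, hs => by
    simp only [linkOK, Bool.and_eq_true, List.any_eq_true] at h
    obtain ⟨⟨u, hu, huw⟩, hr⟩ := h
    have hw : g (pv w) = pv w := fix_of_link hg (hm u (List.mem_append_left _ hu))
      (hm w (List.mem_append_right _ List.mem_cons_self)) huw (hs u hu)
    intro k hk
    rcases List.mem_cons.1 hk with rfl | hk
    · exact hw
    · refine fix_linked hg (w :: s) r hr (fun d hd => hm d ?_) (fun d hd => ?_) k hk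
      · rcases List.mem_append.1 hd with hd | hd
        · rcases List.mem_cons.1 hd with rfl | hd
          · exact List.mem_append_right _ List.mem_cons_self
          · exact List.mem_append_left _ hd
        · exact List.mem_append_right _ (List.mem_cons_of_mem _ hd)
      · rcases List.mem_cons.1 hd with rfl | hd
        · exact hw
        · exact hs d hd

theorem fix_node {g : Equiv.Perm leechLattice} (hg : g ∈ fixP []) {h : SIdx × Cls}
    {r : List (SIdx × Cls)} (hn : nodeOK (h :: r) = true) (hf : g (pv h.1) = pv h.1) :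
    ∀ p ∈ h :: r, g (pv p.1) = pv p.1 := by
  simp only [nodeOK, Bool.and_eq_true, List.all_eq_true] at hn
  intro p hp
  rcases List.mem_cons.1 hp with rfl | hp
  · exact hf
  refine fix_linked hg [h.1] (r.map Prod.fst) hn.2 (fun k hk => ?_) (by simpa using hf) p.1
    (List.mem_map_of_mem hp)
  rcases List.mem_append.1 hk with hk | hk
  · rw [List.mem_singleton] at hk
    rw [hk]
    exact (hn.1 h List.mem_cons_self).1
  · obtain ⟨q, hq, rfl⟩ := List.mem_map.1 hk
    exact (hn.1 q (List.mem_cons_of_mem _ hq)).1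

/-- inner products with the entries -/
def conds5 (L : List Node) (k : SIdx) : List (Cls × ℤ) :=
  (flat L).map fun p => (p.2, val p.2 k)

/-- the list of a class -/
def classL : ℕ → List SIdx
  | 0 => SixSuz.fixL
  | 1 => classL0
  | _ => classL1

/-- the conditions of a class -/
def classC : ℕ → List (Cls × ℤ)
  | 0 => []
  | 1 => classC0
  | _ => classC1

/-- the first vector of a node -/
def headK (n : Node) : SIdx := (n.headD (.a 0 1 false false, [])).1

/-- the vectors that may be images of the first vector -/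
def cand (L : List Node) (n : Node) (c : ℕ) : List SIdx :=
  (classL c).filter fun k => okAll (conds5 L (headK n)) k && (selfDot k == selfDot (headK n))

/-- a step -/
def step5OK (L : List Node) (st : Node × ℕ × ℕ) : Bool :=
  L.all nodeOK && nodeOK st.1 &&
    (!Nat.beq st.2.1 0 || eqZ (runP SixSuz.tProg (lOf (vec (headK st.1)))) (lOf (vec (headK st.1)))) &&
    ((classC st.2.1).all fun q => decide (q ∈ conds5 L (headK st.1))) &&
    Nat.ble (cand L st.1 st.2.1).length st.2.2

/-- all steps -/
def chain5OK : List Node → List (Node × ℕ × ℕ) → Bool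
  | _, [] => true
  | L, st :: r => step5OK L st && chain5OK (st.1 :: L) r

/-- the nodes in order of fixing -/
def chain5End : List Node → List (Node × ℕ × ℕ) → List Node
  | L, [] => L
  | L, st :: r => chain5End (st.1 :: L) r

/-- the elements fixing all entries -/
noncomputable def fixN (L : List Node) : Subgroup (Equiv.Perm leechLattice) :=
  fixP ((flat L).map Prod.fst)

theorem finite_fixN (L : List Node) : Finite (fixN L) :=
  Finite.of_injective (fun g => (⟨g.1, (Subgroup.mem_inf.1 (mem_fixP g.2).1).1⟩ : fiveJ))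
    fun _ _ h => Subtype.ext (congrArg Subtype.val h :)

theorem class_ok0 : (classL0.all fun k => memOK k && okAll classC0 k) = true := by decide +kernel
theorem class_inc0 : incr (classL0.map key) = true := by decide +kernel
theorem class_len0 : count classC0 = classL0.length := by rw [count_classC0]; decide +kernel
theorem class_ok1 : (classL1.all fun k => memOK k && okAll classC1 k) = true := by decide +kernel
theorem class_inc1 : incr (classL1.map key) = true := by decide +kernel
theorem class_len1 : count classC1 = classL1.length := by rw [count_classC1]; decide +kernel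

theorem exists_class {v : leechLattice} (hn : sqNorm (v : GolayPt → ℤ) = 32) :
    ∀ c : ℕ, (c = 0 → (SixSuz.tEl : Equiv.Perm leechLattice) v = v) →
      (∀ q ∈ classC c, dotInt (clsVec q.1) (v : GolayPt → ℤ) = q.2) →
      ∃ k ∈ classL c, memOK k = true ∧ pv k = v
  | 0, h0, _ => by
    obtain ⟨k, hk, e⟩ := mem_class fixL_ok fixL_inc fixL_len (mem_condsOut_of_fixed hn (h0 rfl))
    exact ⟨k, hk, (Bool.and_eq_true_iff.1 (List.all_eq_true.1 fixL_ok k hk)).1, e⟩
  | 1, _, hC => by
    obtain ⟨k, hk, e⟩ := mem_class class_ok0 class_inc0 class_len0 (v := v) ⟨hn, hC⟩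
    exact ⟨k, hk, (Bool.and_eq_true_iff.1 (List.all_eq_true.1 class_ok0 k hk)).1, e⟩
  | _ + 2, _, hC => by
    obtain ⟨k, hk, e⟩ := mem_class class_ok1 class_inc1 class_len1 (v := v) ⟨hn, hC⟩
    exact ⟨k, hk, (Bool.and_eq_true_iff.1 (List.all_eq_true.1 class_ok1 k hk)).1, e⟩

theorem orbit_subset5 {L : List Node} {n : Node} {c s : ℕ} (h : step5OK L (n, c, s) = true) :
    MulAction.orbit (fixN L) (pv (headK n)) ⊆ ↑((cand L n c).map pv).toFinset := by
  simp only [step5OK, Bool.and_eq_true, Bool.or_eq_true, Bool.not_eq_true', eqZ_iff,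
    List.all_eq_true (l := classC _), decide_eq_true_eq] at h
  obtain ⟨⟨⟨⟨hL, hn⟩, hself⟩, hC⟩, -⟩ := h
  obtain ⟨h0, r, rfl⟩ : ∃ h0 r, n = h0 :: r := by
    cases n with
    | nil => simp [nodeOK] at hn
    | cons a b => exact ⟨a, b, rfl⟩
  have hm : memOK h0.1 = true := by
    simp only [nodeOK, Bool.and_eq_true, List.all_eq_true] at hn
    exact (hn.1 h0 List.mem_cons_self).1
  rintro _ ⟨g, rfl⟩
  set v : leechLattice := (g : Equiv.Perm leechLattice) (pv h0.1) with hv
  show v ∈ _
  obtain ⟨hbase, hfix⟩ := mem_fixP g.2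
  obtain ⟨hco, hx, ht⟩ := base_spec hbase
  have hn32 : sqNorm (v : GolayPt → ℤ) = 32 := by
    rw [hv, hco.2, pv_val hm]
    exact (vec_mem (mem_allList hm)).2
  have hconds : ∀ q ∈ conds5 L h0.1, dotInt (clsVec q.1) (v : GolayPt → ℤ) = q.2 := by
    intro q hq
    obtain ⟨p, hp, rfl⟩ := List.mem_map.1 hq
    obtain ⟨node, hnode, hpn⟩ := List.mem_flatMap.1 hp
    have hok := List.all_eq_true.1 hL node hnode
    obtain ⟨a, b, rfl⟩ : ∃ a b, node = a :: b := by
      cases node with
      | nil => simp at hpn
      | cons a b => exact ⟨a, b, rfl⟩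
    simp only [nodeOK, Bool.and_eq_true, List.all_eq_true] at hok
    obtain ⟨hpk, hpc⟩ := hok.1 p hpn
    show dotInt (clsVec p.2) (v : GolayPt → ℤ) = val p.2 h0.1
    rw [← val_eq (mem_allList hm), clsVec_eq hpc, ← pv_val hpk, ← pv_val hm, hv]
    conv_lhs => rw [← hfix p.1 (List.mem_map_of_mem hp)]
    exact dot_preserved hco _ _
  obtain ⟨k, hk, hkm, hkv⟩ := exists_class hn32 c (fun hc => by
      subst hc
      have he : (tJ : Equiv.Perm leechLattice) (pv h0.1) = pv h0.1 := Subtype.ext (lOf_inj (by
        show lOf (((SixSuz.tEl : Equiv.Perm leechLattice) (pv h0.1) : leechLattice) : GolayPt → ℤ) = _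
        rw [lOf_tEl, pv_val hm]
        exact hself.resolve_left (by simp)))
      have := congrArg (fun f : Equiv.Perm leechLattice => f (pv h0.1)) ht
      simp only [Equiv.Perm.mul_apply, he] at this
      exact this.symm)
    (fun q hq => hconds q (hC q hq))
  refine Finset.mem_coe.2 (List.mem_toFinset.2 (List.mem_map.2 ⟨k, List.mem_filter.2 ⟨hk, ?_⟩, hkv⟩))
  have hkvec : vec k = (v : GolayPt → ℤ) := by rw [← hkv, pv_val hkm]
  simp only [Bool.and_eq_true, okAll, List.all_eq_true, decide_eq_true_eq, beq_iff_eq]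
  refine ⟨fun q hq => ?_, ?_⟩
  · rw [← val_eq (mem_allList hkm), hkvec]
    exact hconds q hq
  · have e : ∀ w : leechLattice, dotX (lOf (w : GolayPt → ℤ)) (runP xProg (lOf (w : GolayPt → ℤ))) =
        dotInt (w : GolayPt → ℤ) ((xEl w : leechLattice) : GolayPt → ℤ) := fun w => by
      rw [← dotX_lOf, lOf_xEl]
    rw [selfDot, selfDot, hkvec]
    show _ = dotX (lOf (vec h0.1)) (runP xProg (lOf (vec h0.1)))
    rw [e, ← pv_val hm, e, hv]
    have hc : xEl ((g : Equiv.Perm leechLattice) (pv h0.1)) =
        (g : Equiv.Perm leechLattice) (xEl (pv h0.1)) :=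
      (congrArg (fun f : Equiv.Perm leechLattice => f (pv h0.1)) hx).symm
    rw [hc]
    exact dot_preserved hco _ _

theorem card_fixN_cons {L : List Node} {n : Node} {c s : ℕ} (h : step5OK L (n, c, s) = true) :
    Nat.card (fixN L) ≤ Nat.card (fixN (n :: L)) * s := by
  classical
  have hsub := orbit_subset5 h
  have h' := h
  simp only [step5OK, Bool.and_eq_true, Nat.ble_eq] at h'
  obtain ⟨⟨⟨⟨-, hn⟩, -⟩, -⟩, hle⟩ := h'
  obtain ⟨h0, r, rfl⟩ : ∃ h0 r, n = h0 :: r := by
    cases n with
    | nil => simp [nodeOK] at hn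
    | cons a b => exact ⟨a, b, rfl⟩
  rw [← natCard_inf_stab (fixN L) (pv h0.1)]
  refine Nat.mul_le_mul ?_ ?_
  · haveI := finite_fixN ((h0 :: r) :: L)
    refine Subgroup.card_le_of_le fun g hg => ?_
    obtain ⟨h1, h2⟩ := Subgroup.mem_inf.1 hg
    obtain ⟨hbase, hfix⟩ := mem_fixP h1
    refine fixP_of hbase fun k hk => ?_
    obtain ⟨p, hp, rfl⟩ := List.mem_map.1 hk
    rcases List.mem_append.1 (show p ∈ (h0 :: r) ++ flat L by simpa [flat] using hp) with hp | hp
    · exact fix_node hbase hn (MulAction.mem_stabilizer_iff.1 h2) p hp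
    · exact hfix p.1 (List.mem_map_of_mem hp)
  · calc (MulAction.orbit (fixN L) (pv h0.1)).ncard
        ≤ (((cand L (h0 :: r) c).map pv).toFinset : Set leechLattice).ncard :=
          Set.ncard_le_ncard hsub (Finset.finite_toSet _)
      _ ≤ (cand L (h0 :: r) c).length := by
          rw [Set.ncard_coe_finset]
          exact (List.toFinset_card_le _).trans_eq (List.length_map _)
      _ ≤ s := hle

theorem card_chain5 : ∀ (L : List Node) (st : List (Node × ℕ × ℕ)), chain5OK L st = true →
    Nat.card (fixN L) ≤ Nat.card (fixN (chain5End L st)) * (st.map fun q => q.2.2).prod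
  | L, [], _ => by simp [chain5End]
  | L, (n, c, s) :: r, h => by
    simp only [chain5OK, Bool.and_eq_true] at h
    refine (card_fixN_cons h.1).trans ?_
    rw [List.map_cons, List.prod_cons, chain5End, mul_left_comm, mul_comm s]
    exact Nat.mul_le_mul_right _ (card_chain5 _ r h.2)

theorem chain5_split : chain5OK [] (steps.take 2) = true ∧
    chain5OK (chain5End [] (steps.take 2)) (steps.drop 2) = true := by
  refine ⟨?_, ?_⟩ <;> decide +kernel

theorem chain5_prods : ((steps.take 2).map fun q => q.2.2).prod = 600 ∧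
    ((steps.drop 2).map fun q => q.2.2).prod = 32 := by
  refine ⟨?_, ?_⟩ <;> decide +kernel

/-- the nodes spanning the fixed space -/
def twoNodes : List Node := chain5End [] (steps.take 2)

/-- all nodes -/
def allNodes : List Node := chain5End twoNodes (steps.drop 2)

/-- the spanning vectors -/
def spanList : List SIdx := (steps.flatMap fun st => st.1).map Prod.fst

theorem span_ok : ((List.range 24).all fun i => (List.range 24).all fun j =>
    Nat.beq (combAt spanList (spanCo.getD i []) j) (if i = j then 1 else 0)) = true := by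
  decide +kernel

theorem spanList_ok : spanList.all memOK = true ∧
    spanList.all (fun k => decide (k ∈ (flat allNodes).map Prod.fst)) = true := by
  refine ⟨?_, ?_⟩ <;> decide +kernel

theorem fixN_end_eq_bot : fixN allNodes = ⊥ := by
  refine (Subgroup.eq_bot_iff_forall _).2 fun g hg => ?_
  obtain ⟨hbase, hfix⟩ := mem_fixP hg
  have hco := (base_spec hbase).1
  have hm : redMap g = 1 := redMap_eq_one_of_span hco spanList_ok.1 span_ok fun k hk =>
    hfix k (of_decide_eq_true (List.all_eq_true.1 spanList_ok.2 k hk))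
  refine colsOf_injective hco Co0.one_mem ?_
  simp only [colsOf, hm, redMap_one]

theorem natCard_fixN_two_le : Nat.card (fixN twoNodes) ≤ 32 := by
  have h := card_chain5 _ _ chain5_split.2
  rw [chain5_prods.2] at h
  change Nat.card (fixN twoNodes) ≤ Nat.card (fixN allNodes) * 32 at h
  rwa [fixN_end_eq_bot, Subgroup.card_bot, one_mul] at h

theorem natCard_fixN_nil_le : Nat.card (fixN []) ≤ 19200 := by
  have h := card_chain5 [] _ chain5_split.1
  rw [chain5_prods.1] at h
  exact h.trans (le_trans (Nat.mul_le_mul_right _ natCard_fixN_two_le) (by norm_num))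

end CfsgLib.Spor.FiveJ2
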