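import Cfsg.Agent.Lib.Spor.FiveJ2.Bound

/-!
The pointwise stabiliser of the fixed short vectors in the centraliser of the involution: 32
elements, listed as signed products of four lifts, and their coordinates.
-/

set_option autoImplicit false
set_option maxRecDepth 100000
set_option maxHeartbeats 0

namespace CfsgLib.Spor.FiveJ2

open Cfsg CfsgLib.Spor CfsgLib.Spor.Census CfsgLib.KnownB.Mult
open CfsgLib.ThreeTransp.CoReduce
open CfsgLib.Spor.SixSuz (elt elt_spec memOK mem_allList pv pv_val tMat fixL_ok fixL_inc fixL_len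
  mem_class mem_condsOut_of_fixed lOf_tEl colsOf_tEl apply_neg)

theorem zProg_fix : fix5 zProg = true := by decide +kernel

theorem zMat_ok : eqW zMat (fastMat zProg) = true := by decide +kernel

/-- minus the element of order five, in the centraliser -/
noncomputable def zJ : fiveJ := jEl zProg zProg_fix

theorem colsOf_zJ : colsOf (zJ : Equiv.Perm leechLattice) = zMat := by
  rw [zJ, colsOf_jEl, eqW_iff.1 zMat_ok]

theorem zProg_eq : ∃ a : ℕ, zProg = xProg ++ [.mono a 16777215] ∧
    (List.range 24).all (fun i => Nat.beq (getP a i) i) = true :=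
  ⟨_, rfl, by decide +kernel⟩

theorem zJ_apply (v : leechLattice) : (zJ : Equiv.Perm leechLattice) v = -(xEl v) := by
  obtain ⟨a, e, ha⟩ := zProg_eq
  refine Subtype.ext (lOf_inj ?_)
  rw [zJ, lOf_jEl, e, SixSuz.runP_append, ← lOf_xEl]
  simp only [runP, Stp.run]
  refine List.map_congr_left fun i hi => ?_
  have hi' := List.mem_range.1 hi
  have h1 : Nat.testBit 16777215 i = true := by
    revert hi'; revert i; decide +kernel
  rw [h1, if_pos rfl, Nat.eq_of_beq_eq_true (List.all_eq_true.1 ha i hi), lOf_getD _ hi']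
  rfl

theorem zJ_central (g : fiveJ) : g * zJ = zJ * g := by
  refine Subtype.ext (Equiv.ext fun v => ?_)
  show (g : Equiv.Perm leechLattice) ((zJ : Equiv.Perm leechLattice) v) =
    (zJ : Equiv.Perm leechLattice) ((g : Equiv.Perm leechLattice) v)
  rw [zJ_apply, zJ_apply, apply_neg (fiveJ_le g.2)]
  congr 1
  have hc := Subgroup.mem_centralizer_singleton_iff.1 (Subgroup.mem_inf.1 g.2).2
  exact congrArg (fun f : Equiv.Perm leechLattice => f v) hc

/-- the centraliser of the involution -/
noncomputable def CT : Subgroup fiveJ := Subgroup.centralizer {tJ}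

theorem mem_CT {g : fiveJ} : g ∈ CT ↔ g * tJ = tJ * g := Subgroup.mem_centralizer_singleton_iff

/-- the involution in its centraliser -/
noncomputable def tCT : CT := ⟨tJ, mem_CT.2 rfl⟩

/-- minus the element of order three in the centraliser -/
noncomputable def zCT : CT := ⟨zJ, mem_CT.2 (zJ_central tJ).symm⟩

/-- the permutation of an element -/
noncomputable def perm (g : CT) : Equiv.Perm leechLattice := ((g : fiveJ) : Equiv.Perm leechLattice)

theorem perm_mem_co0 (g : CT) : perm g ∈ Co0 := fiveJ_le (g : fiveJ).2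

theorem perm_mul (g h : CT) : perm (g * h) = perm g * perm h := rfl

theorem perm_one : perm 1 = 1 := rfl

theorem perm_injective : Function.Injective perm := fun _ _ h => Subtype.ext (Subtype.ext h)

theorem perm_commute (g : CT) :
    perm g * (tJ : Equiv.Perm leechLattice) = (tJ : Equiv.Perm leechLattice) * perm g :=
  congrArg Subtype.val (mem_CT.1 g.2)

theorem perm_mem_fixN_nil (g : CT) : perm g ∈ fixN [] :=
  Subgroup.mem_inf.2 ⟨(g : fiveJ).2, Subgroup.mem_centralizer_singleton_iff.2 (perm_commute g)⟩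

theorem natCard_CT_le : Nat.card CT ≤ 19200 := by
  refine le_trans ?_ natCard_fixN_nil_le
  haveI := finite_fixN []
  exact Nat.card_le_card_of_injective (fun g => (⟨perm g, perm_mem_fixN_nil g⟩ : fixN []))
    fun a b h => perm_injective (congrArg Subtype.val h :)

/-- the elements fixing each short vector supported on the octad -/
noncomputable def K0 : Subgroup CT where
  carrier := {g | ∀ k ∈ SixSuz.fixL, perm g (pv k) = pv k}
  one_mem' := fun _ _ => rfl
  mul_mem' {a b} ha hb k hk := by rw [perm_mul, Equiv.Perm.mul_apply, hb k hk, ha k hk]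
  inv_mem' {a} ha k hk := by
    have : perm a⁻¹ = (perm a)⁻¹ := rfl
    rw [this]
    conv_lhs => rw [← ha k hk]
    rw [Equiv.Perm.inv_def, Equiv.symm_apply_apply]

theorem tEl_fixL : (SixSuz.fixL.all fun k => eqZ (runP SixSuz.tProg (lOf (vec k))) (lOf (vec k))) = true := by
  decide +kernel

theorem tJ_pv_fixL {k : SIdx} (hk : k ∈ SixSuz.fixL) : (tJ : Equiv.Perm leechLattice) (pv k) = pv k := by
  have hm : memOK k = true := by
    have := List.all_eq_true.1 fixL_ok k hk
    simp only [Bool.and_eq_true] at this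
    exact this.1
  refine Subtype.ext (lOf_inj ?_)
  show lOf (((SixSuz.tEl : Equiv.Perm leechLattice) (pv k) : leechLattice) : GolayPt → ℤ) = _
  rw [lOf_tEl, pv_val hm, eqZ_iff.1 (List.all_eq_true.1 tEl_fixL k hk)]

instance K0_normal : K0.Normal := ⟨fun n hn g k hk => by
  have hm : memOK k = true := by
    have := List.all_eq_true.1 fixL_ok k hk
    simp only [Bool.and_eq_true] at this
    exact this.1
  set w := perm g⁻¹ (pv k) with hw
  have hn32 : sqNorm (w : GolayPt → ℤ) = 32 := by
    rw [hw, (perm_mem_co0 g⁻¹).2, pv_val hm]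
    exact (vec_mem (mem_allList hm)).2
  have hfix : (tJ : Equiv.Perm leechLattice) w = w := by
    have := congrArg (fun f : Equiv.Perm leechLattice => f (pv k)) (perm_commute g⁻¹)
    simp only [Equiv.Perm.mul_apply, tJ_pv_fixL hk] at this
    exact this.symm
  obtain ⟨k', hk', e⟩ := mem_class fixL_ok fixL_inc fixL_len (mem_condsOut_of_fixed hn32 hfix)
  rw [perm_mul, perm_mul, Equiv.Perm.mul_apply, Equiv.Perm.mul_apply]
  show perm g (perm n w) = pv k
  rw [← e, hn k' hk', e, hw, ← Equiv.Perm.mul_apply, ← perm_mul, mul_inv_cancel]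
  rfl⟩

theorem two_ok : ((flat twoNodes).all fun e => decide (e.1 ∈ SixSuz.fixL)) = true := by decide +kernel

theorem K0_mem_fixN (g : K0) : perm (g : CT) ∈ fixN twoNodes := by
  refine fixP_of (perm_mem_fixN_nil (g : CT)) fun k hk => ?_
  obtain ⟨p, hp, rfl⟩ := List.mem_map.1 hk
  exact g.2 p.1 (of_decide_eq_true (List.all_eq_true.1 two_ok p hp))

theorem natCard_K0_le : Nat.card K0 ≤ 32 := by
  refine le_trans ?_ natCard_fixN_two_le
  haveI := finite_fixN twoNodes
  exact Nat.card_le_card_of_injective
    (fun g => (⟨perm (g : CT), K0_mem_fixN g⟩ : fixN twoNodes))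
    fun a b h => Subtype.ext (perm_injective (congrArg Subtype.val h :))

theorem tCT_mem : tCT ∈ K0 := fun _ hk => tJ_pv_fixL hk

theorem tCT_central (g : CT) : g * tCT = tCT * g := Subtype.ext (mem_CT.1 g.2)

theorem qProgs_ok : ∀ i : Fin 4, fix5 (qProgs.getD i []) = true ∧
    eqW (qMats.getD i []) (fastMat (qProgs.getD i [])) = true ∧
    eqW (mulM (qMats.getD i []) tMat) (mulM tMat (qMats.getD i [])) = true := by decide +kernel

theorem qProgs_fixL : ((List.range 4).all fun i => SixSuz.fixL.all fun k =>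
    eqZ (runP (qProgs.getD i []) (lOf (vec k))) (lOf (vec k))) = true := by decide +kernel

theorem ext_cols {a b : CT} (h : colsOf (perm a) = colsOf (perm b)) : a = b :=
  perm_injective (colsOf_injective (perm_mem_co0 a) (perm_mem_co0 b) h)

theorem colsOf_perm_mul (a b : CT) :
    colsOf (perm (a * b)) = mulM (colsOf (perm a)) (colsOf (perm b)) := colsOf_mul (perm_mem_co0 a)

theorem colsOf_tJ : colsOf (tJ : Equiv.Perm leechLattice) = tMat := colsOf_tEl

theorem colsOf_tCT : colsOf (perm tCT) = tMat := colsOf_tJ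

/-- a lift of a basis element -/
noncomputable def qEl (i : Fin 4) : CT :=
  ⟨jEl _ (qProgs_ok i).1, mem_CT.2 (Subtype.ext (colsOf_injective
    (fiveJ_le (Subtype.property _)) (fiveJ_le (Subtype.property _)) (by
      rw [Subgroup.coe_mul, Subgroup.coe_mul, colsOf_mul (fiveJ_le (Subtype.property _)),
        colsOf_mul (fiveJ_le (Subtype.property _)), colsOf_jEl, colsOf_tJ,
        ← eqW_iff.1 (qProgs_ok i).2.1, eqW_iff.1 (qProgs_ok i).2.2])))⟩

theorem colsOf_qEl (i : Fin 4) : colsOf (perm (qEl i)) = qMats.getD i [] :=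
  (colsOf_jEl _ (qProgs_ok i).1).trans (eqW_iff.1 (qProgs_ok i).2.1).symm

theorem qEl_mem (i : Fin 4) : qEl i ∈ K0 := fun k hk => by
  have hm : memOK k = true := by
    have := List.all_eq_true.1 fixL_ok k hk
    simp only [Bool.and_eq_true] at this
    exact this.1
  refine Subtype.ext (lOf_inj ?_)
  have h := (elt_spec (Bool.and_eq_true_iff.1 (qProgs_ok i).1).1).1 (pv k)
  have h' := List.all_eq_true.1 (List.all_eq_true.1 qProgs_fixL i (List.mem_range.2 i.2)) k hk
  rw [pv_val hm] at h ⊢
  exact h.trans (eqZ_iff.1 h')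

/-- the basis indices of a number -/
def supp (w : Fin 16) : List (Fin 4) := (List.finRange 4).filter fun i : Fin 4 => (w : ℕ).testBit i

/-- a bit of a number -/
def bit (i : Fin 4) : Fin 16 :=
  ⟨2 ^ (i : ℕ), (Nat.pow_lt_pow_iff_right (by norm_num)).2 i.2 |>.trans_eq (by norm_num)⟩

/-- exclusive or -/
def fx (a b : Fin 16) : Fin 16 := ⟨(a : ℕ) ^^^ (b : ℕ), Nat.xor_lt_two_pow (n := 4) a.2 b.2⟩

/-- a product of basis lifts -/
noncomputable def pEl (w : Fin 16) : CT := ((supp w).map qEl).prod

theorem colsOf_prodQ : ∀ l : List (Fin 4), colsOf (perm ((l.map qEl).prod)) =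
    l.foldr (fun i m => mulM (qMats.getD i []) m) oneM
  | [] => colsOf_one
  | i :: l => by
    rw [List.map_cons, List.prod_cons, colsOf_perm_mul, colsOf_qEl, colsOf_prodQ l]
    rfl

theorem pMats_ok : ∀ w : Fin 16, eqW (pMats.getD w [])
    ((supp w).foldr (fun i m => mulM (qMats.getD i []) m) oneM) = true := by decide +kernel

theorem colsOf_pEl (w : Fin 16) : colsOf (perm (pEl w)) = pMats.getD w [] := by
  rw [pEl, colsOf_prodQ, eqW_iff.1 (pMats_ok w)]

/-- a signed product -/
noncomputable def sEl (a : Fin 16 × Bool) : CT := cond a.2 (pEl a.1 * tCT) (pEl a.1)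

/-- the matrix of a signed product -/
def sMat (w : Fin 16) (b : Bool) : List ℕ :=
  cond b (mulM (pMats.getD w []) tMat) (pMats.getD w [])

theorem colsOf_sEl (a : Fin 16 × Bool) : colsOf (perm (sEl a)) = sMat a.1 a.2 := by
  obtain ⟨w, b⟩ := a
  cases b
  · exact colsOf_pEl w
  · show colsOf (perm (pEl w * tCT)) = _
    rw [colsOf_perm_mul, colsOf_pEl, colsOf_tCT]
    rfl

theorem sEl_mem (a : Fin 16 × Bool) : sEl a ∈ K0 := by
  obtain ⟨w, b⟩ := a
  have h : pEl w ∈ K0 := list_prod_mem fun x hx => by
    obtain ⟨i, -, rfl⟩ := List.mem_map.1 hx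
    exact qEl_mem i
  cases b
  · exact h
  · exact mul_mem h tCT_mem

/-- a product of the basis times the involution -/
def ptB (t : List ℕ) (w : ℕ) : Bool := eqW (ptMats.getD w []) (mulM (pMats.getD w []) t)

theorem ptB_all : ∀ w < 16, ptB tMat w = true := by
  intro w hw
  interval_cases w <;> decide +kernel

theorem mats_len : pMats.length = 16 ∧ ptMats.length = 16 := by
  refine ⟨Nat.eq_of_beq_eq_true ?_, Nat.eq_of_beq_eq_true ?_⟩ <;> decide +kernel

theorem ptMats_ok (w : Fin 16) : mulM (pMats.getD w []) tMat = ptMats.getD w [] :=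
  (eqW_iff.1 (ptB_all w w.2)).symm

/-- a key of a matrix -/
def keyM (m : List ℕ) : ℕ := m.foldl (fun a c => (a * 3 + c) % 2305843009213693951) 0

/-- all entries differ -/
def distN : List ℕ → Bool
  | [] => true
  | a :: r => (r.all fun b => !Nat.beq a b) && distN r

theorem distN_nodup : ∀ {l : List ℕ}, distN l = true → l.Nodup
  | [], _ => List.nodup_nil
  | a :: r, h => by
    simp only [distN, Bool.and_eq_true, List.all_eq_true, Bool.not_eq_true'] at h
    exact List.nodup_cons.2 ⟨fun hm => by have := h.1 a hm; simp at this, distN_nodup h.2⟩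

theorem keyP_ok : eqW (pMats.map keyM) (keyList.take 16) = true := by decide +kernel

theorem keyT_ok : eqW (ptMats.map keyM) (keyList.drop 16) = true := by decide +kernel

theorem keyList_ok : distN keyList = true := by decide +kernel

theorem keys_nodup : ((pMats ++ ptMats).map keyM).Nodup := by
  rw [List.map_append, eqW_iff.1 keyP_ok, eqW_iff.1 keyT_ok, List.take_append_drop]
  exact distN_nodup keyList_ok

theorem sMat_key (a b : Fin 16) : (eqW (pMats.getD a []) (pMats.getD b []) = true → a = b) ∧
    eqW (pMats.getD a []) (mulM (pMats.getD b []) tMat) = false := by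
  have hnd : (pMats ++ ptMats).Nodup := List.Nodup.of_map keyM keys_nodup
  have ha : (a : ℕ) < pMats.length := by rw [mats_len.1]; exact a.2
  have hb : (b : ℕ) < pMats.length := by rw [mats_len.1]; exact b.2
  have hb' : (b : ℕ) < ptMats.length := by rw [mats_len.2]; exact b.2
  rw [ptMats_ok, List.getD_eq_getElem _ _ ha, List.getD_eq_getElem _ _ hb,
    List.getD_eq_getElem _ _ hb']
  obtain ⟨hp, -, hd⟩ := List.nodup_append.1 hnd
  refine ⟨fun e => Fin.ext ((hp.getElem_inj_iff).1 (eqW_iff.1 e)), ?_⟩
  rw [Bool.eq_false_iff]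
  exact fun e => hd _ (List.getElem_mem ha) _ (List.getElem_mem hb') (eqW_iff.1 e)

/-- coordinates on the stabiliser -/
noncomputable def sK0 (a : Fin 16 × Bool) : K0 := ⟨sEl a, sEl_mem a⟩

theorem tCT_sq : tCT * tCT = 1 := ext_cols (by
  rw [colsOf_perm_mul, colsOf_tCT, perm_one, colsOf_one]; decide +kernel)

theorem sK0_injective : Function.Injective sK0 := by
  rintro ⟨w, b⟩ ⟨w', b'⟩ h
  have e : sEl (w, b) = sEl (w', b') := congrArg Subtype.val h
  have hm : sMat w b = sMat w' b' := by
    rw [← colsOf_sEl (w, b), ← colsOf_sEl (w', b'), e]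
  cases b <;> cases b'
  · exact Prod.ext ((sMat_key w w').1 (eqW_iff.2 hm)) rfl
  · have := (sMat_key w w').2
    rw [eqW_iff.2 (show pMats.getD w [] = mulM (pMats.getD w' []) tMat from hm)] at this
    exact absurd this (by simp)
  · have := (sMat_key w' w).2
    rw [eqW_iff.2 (show pMats.getD w' [] = mulM (pMats.getD w []) tMat from hm.symm)] at this
    exact absurd this (by simp)
  · refine Prod.ext ((sMat_key w w').1 (eqW_iff.2 ?_)) rfl
    rw [← colsOf_pEl, ← colsOf_pEl]
    have e' : pEl w * tCT = pEl w' * tCT := e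
    rw [mul_right_cancel e']

theorem sK0_bijective : Function.Bijective sK0 :=
  sK0_injective.bijective_of_nat_card_le (by simpa using natCard_K0_le)

theorem natCard_K0 : Nat.card K0 = 32 := by
  rw [← Nat.card_eq_of_bijective sK0 sK0_bijective]
  simp

/-- the coordinates of an element of the stabiliser -/
noncomputable def bits (a : K0) : Fin 16 := ((Equiv.ofBijective sK0 sK0_bijective).symm a).1

theorem bits_sK0 (w : Fin 16) (b : Bool) : bits (sK0 (w, b)) = w := by
  rw [bits, Equiv.ofBijective_symm_apply_apply]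

theorem exists_coord (a : K0) : ∃ b, (a : CT) = sEl (bits a, b) :=
  ⟨((Equiv.ofBijective sK0 sK0_bijective).symm a).2,
    congrArg Subtype.val ((Equiv.ofBijective sK0 sK0_bijective).apply_symm_apply a).symm⟩

theorem bits_of_eq {a : K0} {w : Fin 16} {b : Bool} (h : (a : CT) = sEl (w, b)) : bits a = w := by
  rw [show a = sK0 (w, b) from Subtype.ext h, bits_sK0]

/-- the check of a row of products -/
def prodSignB (w : ℕ) : Bool := (List.range 4).all fun i =>
  eqW (mulM (pMats.getD w []) (qMats.getD i []))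
    (cond (Nat.beq ((prodSign.getD w []).getD i 0) 1) (ptMats.getD (w ^^^ 2 ^ i) [])
      (pMats.getD (w ^^^ 2 ^ i) []))

theorem prodSign_all : ∀ w < 16, prodSignB w = true := by
  intro w hw
  interval_cases w <;> decide +kernel

theorem prodSign_ok (w : Fin 16) (i : Fin 4) : eqW (mulM (pMats.getD w []) (qMats.getD i []))
    (sMat (fx w (bit i)) (Nat.beq ((prodSign.getD w []).getD i 0) 1)) = true := by
  have h := List.all_eq_true.1 (prodSign_all w w.2) i (List.mem_range.2 i.2)
  rw [sMat, ptMats_ok]
  exact h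

/-- a basis lift in the stabiliser -/
noncomputable def qK (i : Fin 4) : K0 := ⟨qEl i, qEl_mem i⟩

/-- the involution in the stabiliser -/
noncomputable def tK : K0 := ⟨tCT, tCT_mem⟩

theorem bits_mul_tK (a : K0) : bits (a * tK) = bits a := by
  obtain ⟨b, hb⟩ := exists_coord a
  refine bits_of_eq (b := !b) ?_
  rw [Subgroup.coe_mul, hb]
  cases b
  · rfl
  · show pEl _ * tCT * tCT = _
    rw [mul_assoc, tCT_sq, mul_one]
    rfl

theorem bits_mul_qK (a : K0) (i : Fin 4) : bits (a * qK i) = fx (bits a) (bit i) := by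
  obtain ⟨b, hb⟩ := exists_coord a
  have e : pEl (bits a) * qEl i =
      sEl (fx (bits a) (bit i), Nat.beq ((prodSign.getD (bits a) []).getD i 0) 1) := ext_cols (by
    rw [colsOf_perm_mul, colsOf_pEl, colsOf_qEl, colsOf_sEl, eqW_iff.1 (prodSign_ok (bits a) i)])
  cases b
  · exact bits_of_eq (by rw [Subgroup.coe_mul, hb]; exact e)
  · have h2 : ((a * qK i : K0) : CT) = pEl (bits a) * qEl i * tCT := by
      rw [Subgroup.coe_mul, hb]
      show pEl _ * tCT * qEl i = _
      rw [mul_assoc, ← tCT_central, ← mul_assoc]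
    rw [show a * qK i = sK0 (fx (bits a) (bit i), Nat.beq ((prodSign.getD (bits a) []).getD i 0) 1) * tK
      from Subtype.ext (by rw [h2, e]; rfl), bits_mul_tK, bits_sK0]

theorem bits_mul_list (a : K0) : ∀ l : List (Fin 4),
    bits (a * (l.map qK).prod) = l.foldl (fun w i => fx w (bit i)) (bits a)
  | [] => by simp
  | i :: l => by
    rw [List.map_cons, List.prod_cons, ← mul_assoc, bits_mul_list (a * qK i) l, bits_mul_qK]
    rfl

theorem supp_fold : ∀ v w : Fin 16, (supp w).foldl (fun u i => fx u (bit i)) v = fx v w := by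
  decide +kernel

theorem bits_mul (a c : K0) : bits (a * c) = fx (bits a) (bits c) := by
  obtain ⟨b, hb⟩ := exists_coord c
  have hp : ((((supp (bits c)).map qK).prod : K0) : CT) = pEl (bits c) := by
    rw [pEl, ← Subgroup.coe_subtype, map_list_prod, List.map_map]
    rfl
  cases b
  · rw [show c = ((supp (bits c)).map qK).prod from Subtype.ext (by rw [hp, hb]; rfl),
      bits_mul_list, supp_fold, ← show c = ((supp (bits c)).map qK).prod from
        Subtype.ext (by rw [hp, hb]; rfl)]
  · have hc : c = ((supp (bits c)).map qK).prod * tK := Subtype.ext (by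
      rw [Subgroup.coe_mul, hp, hb]; rfl)
    conv_lhs => rw [hc, ← mul_assoc, bits_mul_tK, bits_mul_list, supp_fold]

theorem bits_one : bits 1 = 0 := by
  refine bits_of_eq (b := false) ?_
  show (1 : CT) = pEl 0
  rfl

theorem bits_tK : bits tK = 0 := by
  have := bits_mul_tK 1
  rwa [one_mul, bits_one] at this

theorem bits_eq_zero {a : K0} (h : bits a = 0) : a = 1 ∨ a = tK := by
  obtain ⟨b, hb⟩ := exists_coord a
  rw [h] at hb
  cases b
  · exact Or.inl (Subtype.ext hb)
  · exact Or.inr (Subtype.ext (hb.trans (one_mul _)))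

theorem bits_surjective : Function.Surjective bits := fun w => ⟨sK0 (w, false), bits_sK0 w false⟩

end CfsgLib.Spor.FiveJ2
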