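import Cfsg.Agent.Lib.Spor.FiveJ2.Act
import Cfsg.Agent.Lib.Spor.FiveJ2.Data2
import Cfsg.Agent.Lib.ThreeTransp.LargeQuotient
import Cfsg.Agent.Lib.ThreeTransp.LargeSimple
import Cfsg.Agent.Lib.ThreeTransp.ProductUnique
import Cfsg.Agent.Lib.Components.LocalLayer

/-!
The centraliser of an involution in the centraliser modulo its centre: an extraspecial group of
order `2^5` extended by `Ω⁻₄(2)`, the involution not weakly closed; simplicity follows.
-/

set_option autoImplicit false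
set_option maxRecDepth 100000
set_option maxHeartbeats 0

namespace CfsgLib.Spor.FiveJ2

open Cfsg CfsgLib.Spor CfsgLib.Spor.Census CfsgLib.KnownB.Mult
open scoped commutatorElement
open CfsgLib.ThreeTransp.CoReduce
open CfsgLib.Spor.SixSuz (elt elt_spec memOK mem_allList key incr incr_pairwise pv pv_val tMat fixL_ok
  fixL_inc fixL_len mem_class mem_condsOut_of_fixed lOf_tEl apply_neg outL)

theorem orderOf_zJ : orderOf zJ = 10 := by
  rw [← orderOf_zCT, ← Subgroup.orderOf_coe zCT]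
  rfl

/-- the subgroup generated by minus the element of order five -/
noncomputable def zSub : Subgroup fiveJ := Subgroup.zpowers zJ

instance zSub_normal : zSub.Normal :=
  ⟨fun n hn g => by
    obtain ⟨k, rfl⟩ := Subgroup.mem_zpowers_iff.1 hn
    rw [((show Commute g zJ from zJ_central g).zpow_right k).eq, mul_inv_cancel_right]
    exact hn⟩

/-- the image of the involution -/
noncomputable def zbar : fiveJ ⧸ zSub := QuotientGroup.mk tJ

/-- the map onto the centraliser of the image -/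
noncomputable def piC : CT →* Subgroup.centralizer ({zbar} : Set (fiveJ ⧸ zSub)) :=
  ((QuotientGroup.mk' zSub).comp CT.subtype).codRestrict _ fun g =>
    Subgroup.mem_centralizer_singleton_iff.2 (congrArg (QuotientGroup.mk' zSub) (mem_CT.1 g.2))

theorem ker_piC : piC.ker = zC := by
  ext g
  simp only [piC, MonoidHom.ker_codRestrict, MonoidHom.mem_ker, MonoidHom.comp_apply,
    QuotientGroup.mk'_apply, QuotientGroup.eq_one_iff, Subgroup.coe_subtype]
  constructor
  · intro h
    obtain ⟨m, hm⟩ := Subgroup.mem_zpowers_iff.1 h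
    exact Subgroup.mem_zpowers_iff.2 ⟨m, Subtype.ext (by rw [← hm]; simp [zCT])⟩
  · intro h
    obtain ⟨m, rfl⟩ := Subgroup.mem_zpowers_iff.1 h
    exact Subgroup.mem_zpowers_iff.2 ⟨m, by simp [zCT]⟩

theorem piC_eq_one {a : CT} (ha : a ∈ K0) (h : piC a = 1) : a = 1 := by
  have : a ∈ K0 ⊓ zC := ⟨ha, ker_piC ▸ MonoidHom.mem_ker.2 h⟩
  rwa [disjoint_K0_zC, Subgroup.mem_bot] at this

theorem piC_injOn {a b : CT} (ha : a ∈ K0) (hb : b ∈ K0) (h : piC a = piC b) : a = b := by
  refine mul_inv_eq_one.1 (piC_eq_one (mul_mem ha (inv_mem hb)) ?_)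
  rw [map_mul, map_inv, h, mul_inv_cancel]

theorem x_five : eqW (mulM (mulM (mulM (mulM xMat xMat) xMat) xMat) xMat) oneM = true ∧
    eqW xMat oneM = false := by
  refine ⟨?_, ?_⟩ <;> decide +kernel

/-- the element of order five in `Co0` -/
noncomputable def xC : Co0 := ⟨xEl, xEl_mem⟩

theorem xC_five : xC ^ 5 = 1 := by
  refine Subtype.ext (colsOf_injective (xC ^ 5).2 Co0.one_mem ?_)
  rw [show xC ^ 5 = xC * xC * xC * xC * xC by simp [pow_succ]]
  simp only [Subgroup.coe_mul]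
  rw [colsOf_mul (Co0.mul_mem (Co0.mul_mem (Co0.mul_mem xC.2 xC.2) xC.2) xC.2),
    colsOf_mul (Co0.mul_mem (Co0.mul_mem xC.2 xC.2) xC.2), colsOf_mul (Co0.mul_mem xC.2 xC.2),
    colsOf_mul xC.2, show (xC : Equiv.Perm leechLattice) = xEl from rfl, colsOf_xEl,
    eqW_iff.1 x_five.1]
  exact colsOf_one.symm

theorem outL_data : (outL.all fun k => memOK k && eqZ
      (runP SixSuz.tProg (lOf (vec k))) ((lOf (vec k)).map fun x => -x)) = true ∧
    incr (outL.map key) = true ∧ Nat.blt SixSuz.fixL.length outL.length = true := by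
  refine ⟨?_, ?_, ?_⟩ <;> decide +kernel

theorem zJ_pow_neg (w : leechLattice) : ((zJ ^ 5 : fiveJ) : Equiv.Perm leechLattice) w = -w := by
  have hx : (xEl * xEl * xEl * xEl * xEl) w = w := by
    have h := congrArg (fun g : Co0 => (g : Equiv.Perm leechLattice) w) xC_five
    rw [show xC ^ 5 = xC * xC * xC * xC * xC by simp [pow_succ]] at h
    exact h
  rw [show (zJ ^ 5 : fiveJ) = zJ * zJ * zJ * zJ * zJ by simp [pow_succ]]
  simp only [Subgroup.coe_mul, Equiv.Perm.mul_apply, zJ_apply, apply_neg xEl_mem, neg_neg] at hx ⊢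
  rw [hx]

theorem outL_fixed {k : SIdx} (hk : k ∈ outL) :
    ((zJ ^ 5 * tJ : fiveJ) : Equiv.Perm leechLattice) (pv k) = pv k := by
  have h := List.all_eq_true.1 outL_data.1 k hk
  simp only [Bool.and_eq_true, eqZ_iff] at h
  rw [Subgroup.coe_mul, Equiv.Perm.mul_apply, zJ_pow_neg]
  refine Subtype.ext (lOf_inj ?_)
  have e : lOf (((tJ : Equiv.Perm leechLattice) (pv k) : leechLattice) : GolayPt → ℤ) =
      (lOf (vec k)).map fun x => -x := by
    refine (lOf_tEl (pv k)).trans ?_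
    rw [pv_val h.1]
    exact h.2
  rw [AddSubgroup.coe_neg, pv_val h.1]
  simp only [lOf, List.map_map] at e ⊢
  refine List.map_congr_left fun i hi => ?_
  have ei := List.map_inj_left.1 e i hi
  simp only [Function.comp_apply] at ei
  show -_ = _
  rw [ei, neg_neg]

theorem not_conj_neg (g : fiveJ) : g * tJ * g⁻¹ ≠ zJ ^ 5 * tJ := by
  intro he
  classical
  have hnd : (outL.map pv).Nodup := by
    have hn : outL.Nodup := List.Nodup.of_map key
      ((incr_pairwise outL_data.2.1).imp fun h => Nat.ne_of_lt h)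
    refine hn.map_on fun k hk l hl e => ?_
    have hk' := List.all_eq_true.1 outL_data.1 k hk
    have hl' := List.all_eq_true.1 outL_data.1 l hl
    simp only [Bool.and_eq_true] at hk' hl'
    exact vec_injOn (mem_allList hk'.1) (mem_allList hl'.1)
      (by rw [← pv_val hk'.1, ← pv_val hl'.1, e])
  set f : Equiv.Perm leechLattice := (g : Equiv.Perm leechLattice)
  have hsub : (outL.map pv).toFinset.image (fun v => f⁻¹ v) ⊆ (SixSuz.fixL.map pv).toFinset := by
    intro w hw
    obtain ⟨v, hv, rfl⟩ := Finset.mem_image.1 hw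
    obtain ⟨k, hk, rfl⟩ := List.mem_map.1 (List.mem_toFinset.1 hv)
    have hk' := List.all_eq_true.1 outL_data.1 k hk
    simp only [Bool.and_eq_true] at hk'
    have hn : sqNorm ((f⁻¹ (pv k) : leechLattice) : GolayPt → ℤ) = 32 := by
      show sqNorm (((g⁻¹ : fiveJ) : Equiv.Perm leechLattice) (pv k) : GolayPt → ℤ) = 32
      rw [(fiveJ_le (g⁻¹ : fiveJ).2).2, pv_val hk'.1]
      exact (vec_mem (mem_allList hk'.1)).2
    have h1 : (tJ : Equiv.Perm leechLattice) (f⁻¹ (pv k)) = f⁻¹ (pv k) := by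
      have e : tJ * g⁻¹ = g⁻¹ * (zJ ^ 5 * tJ) := by rw [← he]; group
      have := congrArg (fun u : fiveJ => (u : Equiv.Perm leechLattice) (pv k)) e
      simp only [Subgroup.coe_mul, InvMemClass.coe_inv, Equiv.Perm.mul_apply] at this
      rw [this]
      congr 1
      exact outL_fixed hk
    obtain ⟨k', hk'', e⟩ := mem_class fixL_ok fixL_inc fixL_len (mem_condsOut_of_fixed hn h1)
    exact List.mem_toFinset.2 (List.mem_map.2 ⟨k', hk'', e⟩)
  have h1 := Finset.card_le_card hsub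
  rw [Finset.card_image_of_injective _ f⁻¹.injective, List.toFinset_card_of_nodup hnd,
    List.length_map] at h1
  have h2 := (List.toFinset_card_le (SixSuz.fixL.map pv)).trans_eq (List.length_map _)
  have h3 : SixSuz.fixL.length < outL.length := by simpa [Nat.blt_eq] using outL_data.2.2
  omega

theorem piC_surjective : Function.Surjective piC := by
  rintro ⟨c, hc⟩
  obtain ⟨g, rfl⟩ := QuotientGroup.mk_surjective c
  have h := Subgroup.mem_centralizer_singleton_iff.1 hc
  have hmem : g * tJ * g⁻¹ * tJ⁻¹ ∈ zSub := by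
    rw [← QuotientGroup.eq_one_iff]
    simp only [QuotientGroup.mk_mul, QuotientGroup.mk_inv]
    rw [show (QuotientGroup.mk g : fiveJ ⧸ zSub) * QuotientGroup.mk tJ = zbar * QuotientGroup.mk g
      from h, mul_inv_cancel_right, zbar, mul_inv_cancel]
  obtain ⟨m, hm⟩ := Subgroup.mem_zpowers_iff.1 hmem
  rw [← zpow_mod_orderOf, orderOf_zJ] at hm
  obtain ⟨k, hk⟩ := Int.eq_ofNat_of_zero_le (Int.emod_nonneg m (show ((10 : ℕ) : ℤ) ≠ 0 by norm_num))
  have hk6 : k < 10 := by
    have := Int.emod_lt_of_pos m (show (0 : ℤ) < ((10 : ℕ) : ℤ) by norm_num)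
    omega
  rw [hk, zpow_natCast] at hm
  have he : g * tJ * g⁻¹ = zJ ^ k * tJ := by rw [hm]; group
  have ht : tJ * tJ = 1 := congrArg (fun u : CT => (u : fiveJ)) tCT_sq
  have hsq : zJ ^ (2 * k) = 1 := by
    have h2 : g * tJ * g⁻¹ * (g * tJ * g⁻¹) = 1 := by
      rw [show g * tJ * g⁻¹ * (g * tJ * g⁻¹) = g * (tJ * tJ) * g⁻¹ by group, ht, mul_one,
        mul_inv_cancel]
    have hc : Commute tJ (zJ ^ k) := Commute.pow_right (zJ_central tJ) k
    rw [he, mul_assoc, ← mul_assoc tJ, hc.eq, mul_assoc, ht, mul_one, ← pow_add] at h2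
    rwa [two_mul]
  have hd := orderOf_dvd_of_pow_eq_one hsq
  rw [orderOf_zJ] at hd
  have hk03 : k = 0 ∨ k = 5 := by omega
  rcases hk03 with rfl | rfl
  · rw [pow_zero, one_mul, mul_inv_eq_iff_eq_mul] at he
    exact ⟨⟨g, mem_CT.2 he⟩, rfl⟩
  · exact absurd he (not_conj_neg g)

theorem zC_le_ker : zC ≤ actHom.ker := by
  rw [act_cards.2.1]; exact le_sup_right

/-- the action of the centraliser -/
noncomputable def psiC : Subgroup.centralizer ({zbar} : Set (fiveJ ⧸ zSub)) →* G4 :=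
  MonoidHom.liftOfSurjective piC piC_surjective ⟨actHom, ker_piC.trans_le zC_le_ker⟩

theorem psiC_piC (g : CT) : psiC (piC g) = actHom g :=
  MonoidHom.liftOfRightInverse_comp_apply _ _ _ _ g

theorem ker_psiC : psiC.ker = K0.map piC := by
  ext c
  obtain ⟨g, rfl⟩ := piC_surjective c
  rw [MonoidHom.mem_ker, psiC_piC, ← MonoidHom.mem_ker, act_cards.2.1, Subgroup.mem_map]
  constructor
  · intro h
    obtain ⟨a, ha, b, hb, rfl⟩ := Subgroup.mem_sup_of_normal_right.1 h
    have hb' : piC b = 1 := by rw [← MonoidHom.mem_ker, ker_piC]; exact hb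
    exact ⟨a, ha, by rw [map_mul, hb', mul_one]⟩
  · rintro ⟨a, ha, e⟩
    have h1 : a⁻¹ * g ∈ zC := by
      rw [← ker_piC, MonoidHom.mem_ker, map_mul, map_inv, e, inv_mul_cancel]
    have := Subgroup.mul_mem_sup ha h1
    rwa [mul_inv_cancel_left] at this

theorem range_psiC : psiC.range = Cfsg.Omega (ZMod 2) qf := by
  rw [← range_actHom]
  ext x
  simp only [MonoidHom.mem_range]
  exact ⟨fun ⟨c, hc⟩ => by obtain ⟨g, rfl⟩ := piC_surjective c; exact ⟨g, (psiC_piC g).symm.trans hc⟩,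
    fun ⟨g, hg⟩ => ⟨piC g, (psiC_piC g).trans hg⟩⟩

theorem natCard_ker_psiC : Nat.card psiC.ker = 2 ^ 5 := by
  have h := Nat.card_eq_of_bijective
    (fun a : K0 => (⟨piC a, ker_psiC.symm ▸ Subgroup.mem_map_of_mem _ a.2⟩ : psiC.ker))
    ⟨fun a b e => Subtype.ext (piC_injOn a.2 b.2 (congrArg Subtype.val e)), fun c => by
      have hc : (c : Subgroup.centralizer ({zbar} : Set (fiveJ ⧸ zSub))) ∈ K0.map piC :=
        ker_psiC ▸ c.2
      obtain ⟨a, ha, e⟩ := Subgroup.mem_map.1 hc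
      exact ⟨⟨a, ha⟩, Subtype.ext e⟩⟩
  rw [← h, natCard_K0]
  norm_num

theorem qf_wit : ∀ w : Fin 16, w = 0 ∨ ∃ v : Fin 16, qf (bv w + bv v) ≠ qf (bv w) + qf (bv v) := by
  decide +kernel

theorem bits_eq_zero_of_commute {a : K0} (h : ∀ b : K0, a * b = b * a) : bits a = 0 := by
  refine (qf_wit (bits a)).resolve_right fun ⟨v, hv⟩ => hv ?_
  obtain ⟨b, rfl⟩ := bits_surjective v
  have h1 := sq_eq (a * b)
  have h2 : ((a * b : K0) : CT) * (a * b : K0) = (a : CT) * a * ((b : CT) * b) := by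
    have hc : (a : CT) * b = b * a := congrArg Subtype.val (h b)
    rw [Subgroup.coe_mul, mul_assoc, ← mul_assoc (b : CT), ← hc]
    simp only [mul_assoc]
  rw [h2, sq_eq a, sq_eq b, vq_mul] at h1
  have key : ∀ x y z : ZMod 2, (cond (decide (x = 1)) tCT 1) * (cond (decide (y = 1)) tCT 1) =
      cond (decide (z = 1)) tCT 1 → z = x + y := by
    intro x y z
    have two : ∀ u : ZMod 2, u = 0 ∨ u = 1 := by decide
    rcases two x with rfl | rfl <;> rcases two y with rfl | rfl <;> rcases two z with rfl | rfl <;>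
      simp [tCT_sq, tCT_ne_one, Ne.symm tCT_ne_one] <;> decide
  exact key _ _ _ h1

theorem comm_cases (a b : K0) : (a : CT) * b * (a : CT)⁻¹ * (b : CT)⁻¹ = 1 ∨
    (a : CT) * b * (a : CT)⁻¹ * (b : CT)⁻¹ = tCT := by
  have hinv : ∀ c : K0, vq c⁻¹ = vq c := fun c => by
    have h0 : vq c + vq c⁻¹ = 0 := by rw [← vq_mul, mul_inv_cancel, vq_one]
    rw [eq_neg_of_add_eq_zero_right h0]
    funext i
    exact ZModModule.neg_eq_self _
  have h : bits (a * b * a⁻¹ * b⁻¹) = 0 := bv_injective (by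
    show vq _ = bv 0
    rw [← bits_one, ← vq, vq_mul, vq_mul, vq_mul, hinv, hinv, vq_one]
    funext i
    simp only [Pi.add_apply, Pi.zero_apply]
    have : ∀ x y : ZMod 2, x + y + x + y = 0 := by decide
    exact this _ _)
  rcases bits_eq_zero h with e | e
  · exact Or.inl (congrArg Subtype.val e)
  · exact Or.inr (congrArg Subtype.val e)

theorem extraspecial_ker : IsExtraspecial 2 ↥psiC.ker := by
  have hP : IsPGroup 2 psiC.ker := IsPGroup.of_card natCard_ker_psiC
  have lift : ∀ e ∈ psiC.ker, ∃ a : K0, piC a = e := fun e he => by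
    obtain ⟨a, ha, rfl⟩ := Subgroup.mem_map.1 (ker_psiC ▸ he : e ∈ K0.map piC)
    exact ⟨⟨a, ha⟩, rfl⟩
  refine (CfsgLib.ThreeTransp.isExtraspecial_of psiC.ker (z := piC tCT) hP
    (ker_psiC.symm ▸ Subgroup.mem_map_of_mem _ tCT_mem) (fun h => tCT_ne_one (piC_eq_one tCT_mem h))
    (by rw [← map_mul, tCT_sq, map_one]) ?_ ?_ ?_ ?_ ?_).1
  · intro e he
    obtain ⟨a, rfl⟩ := lift e he
    rw [← map_mul, ← map_mul, tCT_central]
  · intro x hx y hy
    obtain ⟨a, rfl⟩ := lift x hx
    obtain ⟨b, rfl⟩ := lift y hy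
    simp only [← map_inv, ← map_mul]
    rcases comm_cases a b with e | e <;> rw [e]
    · exact Or.inl (map_one _)
    · exact Or.inr rfl
  · intro x hx
    obtain ⟨a, rfl⟩ := lift x hx
    rw [← map_mul, sq_eq]
    cases decide (qf (vq a) = 1)
    · exact Or.inl (map_one _)
    · exact Or.inr rfl
  · intro d hd hcom
    obtain ⟨a, rfl⟩ := lift d hd
    have h : bits a = 0 := bits_eq_zero_of_commute fun b => Subtype.ext (piC_injOn
      (mul_mem a.2 b.2) (mul_mem b.2 a.2) (by
        simp only [Subgroup.coe_mul, map_mul]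
        exact (hcom _ (ker_psiC.symm ▸ Subgroup.mem_map_of_mem _ b.2)).symm))
    rcases bits_eq_zero h with rfl | rfl
    · exact Or.inl (map_one _)
    · exact Or.inr rfl
  · by_contra hne
    simp only [not_exists, not_and, ne_eq, not_not] at hne
    have h := bits_eq_zero_of_commute (a := sK0 (1, false)) fun b => Subtype.ext (piC_injOn
      (mul_mem (sK0 (1, false)).2 b.2) (mul_mem b.2 (sK0 (1, false)).2) (by
        simp only [Subgroup.coe_mul, map_mul]
        exact hne _ (ker_psiC.symm ▸ Subgroup.mem_map_of_mem _ (sK0 (1, false)).2) _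
          (ker_psiC.symm ▸ Subgroup.mem_map_of_mem _ b.2)))
    rw [bits_sK0] at h
    exact absurd h (by decide)

theorem omega_simple : IsSimpleGroup ↥(Cfsg.Omega (ZMod 2) qf) ∧
    pCore 2 ↥(Cfsg.Omega (ZMod 2) qf) = ⊥ := by
  obtain ⟨e⟩ := CfsgLib.Small.JTwoType.omega_minus_iso_alt
  haveI := CfsgLib.ThreeTransp.isSimpleGroup_of_equiv e alternatingGroup.isSimpleGroup_five
  refine ⟨this, CfsgLib.ThreeTransp.pCore_eq_bot_of_simple this fun h => ?_⟩
  haveI := h
  letI : CommGroup ↥(Cfsg.Omega (ZMod 2) qf) :=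
    { (inferInstance : Group ↥(Cfsg.Omega (ZMod 2) qf)) with mul_comm := h.is_comm.comm }
  have hp : (Nat.card ↥(Cfsg.Omega (ZMod 2) qf)).Prime := IsSimpleGroup.prime_card
  rw [natCard_G4.2] at hp
  norm_num at hp

theorem pCore_centralizer : pCore 2 ↥(Subgroup.centralizer ({zbar} : Set (fiveJ ⧸ zSub))) =
    psiC.ker := by
  refine le_antisymm ?_ (CfsgLib.Base.le_pCore (IsPGroup.of_card natCard_ker_psiC))
  intro x hx
  have h := CfsgLib.Base.map_pCore_le (p := 2) psiC.rangeRestrict psiC.rangeRestrict_surjective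
    (Subgroup.mem_map_of_mem _ hx)
  have hb : pCore 2 psiC.range = ⊥ := by
    have := CfsgLib.Base.map_pCore_mulEquiv (p := 2) (MulEquiv.subgroupCongr range_psiC)
    rw [omega_simple.2, Subgroup.map_eq_bot_iff_of_injective] at this
    · exact this
    · exact (MulEquiv.subgroupCongr range_psiC).injective
  rw [hb, Subgroup.mem_bot] at h
  exact MonoidHom.mem_ker.2 (congrArg Subtype.val h)

theorem fstar_centralizer :
    generalizedFittingSubgroup ↥(Subgroup.centralizer ({zbar} : Set (fiveJ ⧸ zSub))) = psiC.ker := by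
  haveI : Fact (Nat.Prime 2) := ⟨Nat.prime_two⟩
  rw [← pCore_centralizer, CfsgLib.Components.fstar_eq_pCore_iff, pCore_centralizer]
  intro c hc
  obtain ⟨g, rfl⟩ := piC_surjective c
  rw [MonoidHom.mem_ker, psiC_piC]
  refine actHom_eq_one fun a => congrArg vq (Subtype.ext ?_)
  refine piC_injOn (K0_normal.conj_mem _ a.2 g) a.2 ?_
  show piC (g * a * g⁻¹) = _
  rw [map_mul, map_mul, map_inv,
    ← Subgroup.mem_centralizer_iff.1 hc _ (ker_psiC.symm ▸ Subgroup.mem_map_of_mem _ a.2),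
    mul_inv_cancel_right]

theorem uProg_fix : fix5 uProg = true := by decide +kernel

theorem uMat_ok : eqW uMat (fastMat uProg) = true := by decide +kernel

/-- the element moving the involution -/
noncomputable def uEl : fiveJ := jEl uProg uProg_fix

theorem moved_ok : eqW (mulM uMat tMat)
    (mulM (mulM (zPowMat 5) (pMats.getD 1 [])) uMat) = true := by decide +kernel

theorem conj_uEl : uEl * tJ = zJ ^ 5 * (pEl 1 : fiveJ) * uEl := by
  refine Subtype.ext (colsOf_injective (fiveJ_le (Subtype.property _))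
    (fiveJ_le (Subtype.property _)) ?_)
  have hp : colsOf (((pEl 1 : CT) : fiveJ) : Equiv.Perm leechLattice) = pMats.getD 1 [] :=
    colsOf_pEl 1
  have hz : colsOf ((zJ ^ 5 : fiveJ) : Equiv.Perm leechLattice) = zPowMat 5 := colsOf_zpow 5
  simp only [Subgroup.coe_mul]
  rw [colsOf_mul (fiveJ_le uEl.2), colsOf_mul, colsOf_mul (fiveJ_le (zJ ^ 5).2), colsOf_tJ,
    hz, hp, uEl, colsOf_jEl, ← eqW_iff.1 uMat_ok]
  · exact eqW_iff.1 moved_ok
  · exact Co0.mul_mem (fiveJ_le (zJ ^ 5).2) (fiveJ_le (pEl 1 : fiveJ).2)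

theorem orderOf_zbar : orderOf zbar = 2 := by
  refine orderOf_eq_prime ?_ fun h => ?_
  · rw [pow_two, zbar, ← QuotientGroup.mk_mul,
      show tJ * tJ = 1 from congrArg (fun u : CT => (u : fiveJ)) tCT_sq, QuotientGroup.mk_one]
  · exact tCT_ne_one (piC_eq_one tCT_mem (Subtype.ext h))

theorem conj_pEl : (QuotientGroup.mk uEl : fiveJ ⧸ zSub) * zbar * (QuotientGroup.mk uEl)⁻¹ =
    (piC (pEl 1) : fiveJ ⧸ zSub) := by
  have h3 : zJ ^ 5 ∈ zSub := Subgroup.npow_mem_zpowers zJ 5
  rw [mul_inv_eq_iff_eq_mul]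
  show (QuotientGroup.mk uEl : fiveJ ⧸ zSub) * QuotientGroup.mk tJ = _
  rw [← QuotientGroup.mk_mul, conj_uEl, QuotientGroup.mk_mul, QuotientGroup.mk_mul,
    (QuotientGroup.eq_one_iff (N := zSub) _).2 h3, one_mul]
  rfl

theorem moved_zbar : ∃ g : fiveJ ⧸ zSub,
    (∃ hq : g * zbar * g⁻¹ ∈ Subgroup.centralizer ({zbar} : Set (fiveJ ⧸ zSub)),
      (⟨g * zbar * g⁻¹, hq⟩ : Subgroup.centralizer ({zbar} : Set (fiveJ ⧸ zSub))) ∈ psiC.ker) ∧
      g * zbar * g⁻¹ ≠ zbar := by
  refine ⟨QuotientGroup.mk uEl, ?_⟩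
  have e := conj_pEl
  have hp : pEl 1 ∈ K0 := sEl_mem (1, false)
  refine ⟨⟨e ▸ (piC (pEl 1)).2, ?_⟩, fun h => ?_⟩
  · rw [show (⟨_, e ▸ (piC (pEl 1)).2⟩ : Subgroup.centralizer ({zbar} : Set (fiveJ ⧸ zSub))) =
      piC (pEl 1) from Subtype.ext e]
    exact ker_psiC.symm ▸ Subgroup.mem_map_of_mem _ hp
  · have h1 : pEl 1 = tCT := piC_injOn hp tCT_mem (Subtype.ext (e.symm.trans h))
    have h2 := bits_sK0 1 false
    rw [show sK0 (1, false) = tK from Subtype.ext h1, bits_tK] at h2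
    exact absurd h2 (by decide)

/-- the centraliser modulo its centre, with the stated involution centraliser -/
theorem exists_invol : ∃ z : fiveJ ⧸ zSub, orderOf z = 2 ∧
    ∃ (Q : Subgroup (Subgroup.centralizer ({z} : Set (fiveJ ⧸ zSub)))) (_ : Q.Normal),
      Cfsg.generalizedFittingSubgroup (Subgroup.centralizer ({z} : Set (fiveJ ⧸ zSub))) = Q ∧
      Cfsg.IsExtraspecial 2 Q ∧ Nat.card Q = 2 ^ 5 ∧
      Nonempty ((Subgroup.centralizer ({z} : Set (fiveJ ⧸ zSub))) ⧸ Q ≃*
        Cfsg.Omega (ZMod 2) (Cfsg.quadFormMinus 1 (ZMod 2) 1 1)) ∧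
      ∃ g : fiveJ ⧸ zSub, (∃ hq : g * z * g⁻¹ ∈ Subgroup.centralizer ({z} : Set (fiveJ ⧸ zSub)),
        (⟨g * z * g⁻¹, hq⟩ : Subgroup.centralizer ({z} : Set (fiveJ ⧸ zSub))) ∈ Q) ∧
        g * z * g⁻¹ ≠ z :=
  ⟨zbar, orderOf_zbar, psiC.ker, inferInstance, fstar_centralizer, extraspecial_ker,
    natCard_ker_psiC,
    ⟨(QuotientGroup.quotientKerEquivRange psiC).trans (MulEquiv.subgroupCongr range_psiC)⟩,
    moved_zbar⟩

/-- one step of closing a set of numbers -/
def clStep (L : List (Fin 16)) : List (Fin 16) :=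
  (List.finRange 16).filter fun v => L.contains v ||
    ((List.finRange 2).any fun j => L.any fun u => appS j u == v) ||
    (L.any fun u => L.any fun u' => fx u u' == v)

theorem clStep_all : ∀ v : Fin 16, (clStep (clStep (clStep (clStep (clStep [1]))))).contains v = true := by
  decide +kernel

theorem gProgs_ok : ∀ i : Fin 3, fix5 (gProgs.getD i []) = true ∧ fix5 (wProgs.getD i []) = true ∧
    eqW (gMats.getD i []) (fastMat (gProgs.getD i [])) = true ∧
    eqW (wMats.getD i []) (fastMat (wProgs.getD i [])) = true ∧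
    eqW (mulM (wMats.getD i []) (gMats.getD i [])) (mulM (gMats.getD i []) tMat) = true := by
  intro i
  fin_cases i <;> decide +kernel

/-- a conjugate of the involution -/
noncomputable def wEl (i : Fin 3) : fiveJ := jEl _ (gProgs_ok i).2.1

theorem colsOf_wEl (i : Fin 3) : colsOf (wEl i : Equiv.Perm leechLattice) = wMats.getD i [] :=
  (colsOf_jEl _ (gProgs_ok i).2.1).trans (eqW_iff.1 (gProgs_ok i).2.2.2.1).symm

theorem wEl_conj (i : Fin 3) : ∃ g : fiveJ, wEl i = g * tJ * g⁻¹ := by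
  refine ⟨jEl _ (gProgs_ok i).1, eq_mul_inv_iff_mul_eq.2 (Subtype.ext ?_)⟩
  refine colsOf_injective (fiveJ_le (Subtype.property _)) (fiveJ_le (Subtype.property _)) ?_
  simp only [Subgroup.coe_mul]
  rw [colsOf_mul (fiveJ_le (wEl i).2), colsOf_mul (fiveJ_le (Subtype.property _)), colsOf_tJ,
    colsOf_wEl, colsOf_jEl, ← eqW_iff.1 (gProgs_ok i).2.2.1]
  exact eqW_iff.1 (gProgs_ok i).2.2.2.2

theorem yMat_ok : eqW (mulM (mulM (wMats.getD 0 []) (wMats.getD 1 [])) (wMats.getD 2 [])) yMat = true ∧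
    eqW (mulM yMat tMat) (mulM tMat yMat) = true ∧
    eqW (mulM yMat (qMats.getD 1 [])) (mulM (sMat 7 false) yMat) = true := by
  refine ⟨?_, ?_, ?_⟩ <;> decide +kernel

theorem colsOf_yProd : colsOf ((wEl 0 * wEl 1 * wEl 2 : fiveJ) : Equiv.Perm leechLattice) = yMat := by
  rw [Subgroup.coe_mul, colsOf_mul (fiveJ_le (wEl 0 * wEl 1).2), Subgroup.coe_mul,
    colsOf_mul (fiveJ_le (wEl 0).2), colsOf_wEl, colsOf_wEl, colsOf_wEl]
  exact eqW_iff.1 yMat_ok.1

/-- a product of conjugates centralising the involution -/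
noncomputable def yCT : CT :=
  ⟨wEl 0 * wEl 1 * wEl 2, mem_CT.2 (Subtype.ext (colsOf_injective
    (fiveJ_le (Subtype.property _)) (fiveJ_le (Subtype.property _)) (by
      show colsOf (((wEl 0 * wEl 1 * wEl 2 : fiveJ) : Equiv.Perm leechLattice) * (tJ : Equiv.Perm leechLattice)) =
        colsOf ((tJ : Equiv.Perm leechLattice) * ((wEl 0 * wEl 1 * wEl 2 : fiveJ) : Equiv.Perm leechLattice))
      rw [colsOf_mul (fiveJ_le (Subtype.property _)),
        colsOf_mul (fiveJ_le (Subtype.property _)), colsOf_yProd, colsOf_tJ, eqW_iff.1 yMat_ok.2.1])))⟩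

theorem actHom_yCT : actHom yCT ≠ 1 := by
  intro h
  have hy : colsOf (perm yCT) = yMat := colsOf_yProd
  have hb : bits (conjK yCT (qK 1)) = 7 := bits_of_eq (b := false) (by
    show yCT * qEl 1 * yCT⁻¹ = _
    rw [mul_inv_eq_iff_eq_mul]
    exact ext_cols (by
      rw [colsOf_perm_mul, colsOf_perm_mul, hy, colsOf_qEl, colsOf_sEl]
      exact eqW_iff.1 yMat_ok.2.2))
  have h1 := act_actHom yCT (qK 1)
  rw [h, act4.act_one, vq, vq, hb, bits_qK] at h1
  exact absurd (bv_injective h1) (by decide)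

theorem simple_quot : IsSimpleGroup (fiveJ ⧸ zSub) ∧ ¬ IsMulCommutative (fiveJ ⧸ zSub) := by
  obtain ⟨g, ⟨hgC, hgQ⟩, hne⟩ := moved_zbar
  refine ⟨?_, fun h => hne (by rw [h.is_comm.comm g zbar, mul_inv_cancel_right])⟩
  set H := Subgroup.centralizer ({zbar} : Set (fiveJ ⧸ zSub)) with hH
  set Q' := psiC.ker.map H.subtype with hQ'
  have hE : IsExtraspecial 2 ↥Q' := CfsgLib.ThreeTransp.extraspecial_map extraspecial_ker
  obtain ⟨hZ, hC, hN⟩ :=
    CfsgLib.ThreeTransp.fstar_setting orderOf_zbar (Q := Q') (by rw [fstar_centralizer]) hE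
  have hL := CfsgLib.ThreeTransp.large_of_conj_mem hE hC hN hZ (g := g) ⟨_, hgQ, rfl⟩ hne
  haveI : Nontrivial (fiveJ ⧸ zSub) :=
    ⟨⟨zbar, 1, CfsgLib.Involutions.invol_ne_one orderOf_zbar⟩⟩
  refine ⟨fun N hn => ?_⟩
  haveI := hn
  rcases CfsgLib.ThreeTransp.mem_of_normal hL orderOf_zbar hZ N with h | hzN
  · exact Or.inl h
  right
  refine CfsgLib.ThreeTransp.eq_top_of_centralizer_le hL hZ N ?_
  have hzT : (piC tCT : fiveJ ⧸ zSub) ∈ N := hzN
  have hgen : ∀ v : Fin 16, ∃ a : K0, bits a = v ∧ (piC a : fiveJ ⧸ zSub) ∈ N := by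
    have hstart : ∀ u ∈ ([1] : List (Fin 16)), ∃ a : K0, bits a = u ∧ (piC a : fiveJ ⧸ zSub) ∈ N := by
      intro u hu
      rw [List.mem_singleton] at hu
      refine ⟨sK0 (1, false), by rw [bits_sK0, hu], ?_⟩
      have e := conj_pEl
      show (piC (pEl 1) : fiveJ ⧸ zSub) ∈ N
      rw [← e]
      exact hn.conj_mem _ hzN _
    have hstep : ∀ L : List (Fin 16),
        (∀ u ∈ L, ∃ a : K0, bits a = u ∧ (piC a : fiveJ ⧸ zSub) ∈ N) →
        ∀ u ∈ clStep L, ∃ a : K0, bits a = u ∧ (piC a : fiveJ ⧸ zSub) ∈ N := by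
      intro L hL' v hv
      have hv' := (List.mem_filter.1 hv).2
      simp only [Bool.or_eq_true, List.any_eq_true, List.contains_iff_mem, beq_iff_eq] at hv'
      rcases hv' with (h | ⟨j, -, u, hu, rfl⟩) | ⟨u, hu, u', hu', rfl⟩
      · exact hL' v h
      · obtain ⟨a, rfl, ha⟩ := hL' u hu
        refine ⟨conjK (sG j) a, bv_injective ?_, ?_⟩
        · rw [← act_sG j (bits a), ← vq, ← vq, act_actHom]
        · show (piC (sG j * a * (sG j)⁻¹) : fiveJ ⧸ zSub) ∈ N
          rw [map_mul, map_mul, map_inv, Subgroup.coe_mul, Subgroup.coe_mul, Subgroup.coe_inv]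
          exact hn.conj_mem _ ha _
      · obtain ⟨a, rfl, ha⟩ := hL' u hu
        obtain ⟨a', rfl, ha'⟩ := hL' u' hu'
        refine ⟨a * a', bits_mul a a', ?_⟩
        rw [Subgroup.coe_mul, map_mul, Subgroup.coe_mul]
        exact mul_mem ha ha'
    intro v
    exact hstep _ (hstep _ (hstep _ (hstep _ (hstep _ hstart)))) v
      (List.contains_iff_mem.1 (clStep_all v))
  have hK : ∀ a : K0, (piC a : fiveJ ⧸ zSub) ∈ N := by
    intro a
    obtain ⟨a', ha', hN'⟩ := hgen (bits a)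
    obtain ⟨b, hb⟩ := exists_coord a
    obtain ⟨b', hb'⟩ := exists_coord a'
    rw [ha'] at hb'
    have key : ∀ c c' : Bool, (piC (sEl (bits a, c')) : fiveJ ⧸ zSub) ∈ N →
        (piC (sEl (bits a, c)) : fiveJ ⧸ zSub) ∈ N := by
      intro c c' hc
      cases c <;> cases c'
      · exact hc
      · have h2 : (piC (pEl (bits a) * tCT) : fiveJ ⧸ zSub) ∈ N := hc
        rw [map_mul, Subgroup.coe_mul] at h2
        exact (Subgroup.mul_mem_cancel_right N hzT).1 h2
      · show (piC (pEl (bits a) * tCT) : fiveJ ⧸ zSub) ∈ N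
        rw [map_mul, Subgroup.coe_mul]
        exact mul_mem hc hzT
      · exact hc
    rw [hb]
    exact key b b' (hb' ▸ hN')
  have hker : psiC.ker ≤ N.subgroupOf H := by
    intro c hc
    obtain ⟨a, ha, rfl⟩ := Subgroup.mem_map.1 (ker_psiC ▸ hc : c ∈ K0.map piC)
    exact hK ⟨a, ha⟩
  have hy : piC yCT ∈ N.subgroupOf H := by
    show (QuotientGroup.mk (wEl 0 * wEl 1 * wEl 2) : fiveJ ⧸ zSub) ∈ N
    rw [QuotientGroup.mk_mul, QuotientGroup.mk_mul]
    have hw : ∀ i, (QuotientGroup.mk (wEl i) : fiveJ ⧸ zSub) ∈ N := fun i => by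
      obtain ⟨c, e⟩ := wEl_conj i
      rw [e, QuotientGroup.mk_mul, QuotientGroup.mk_mul, QuotientGroup.mk_inv]
      exact hn.conj_mem _ hzN _
    exact mul_mem (mul_mem (hw 0) (hw 1)) (hw 2)
  haveI hsr : IsSimpleGroup ↥psiC.range :=
    CfsgLib.ThreeTransp.isSimpleGroup_of_equiv (MulEquiv.subgroupCongr range_psiC) omega_simple.1
  haveI : ((N.subgroupOf H).map psiC.rangeRestrict).Normal :=
    (inferInstance : (N.subgroupOf H).Normal).map _ psiC.rangeRestrict_surjective
  rcases hsr.eq_bot_or_eq_top_of_normal ((N.subgroupOf H).map psiC.rangeRestrict) this with h | h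
  · exfalso
    have := Subgroup.mem_map_of_mem psiC.rangeRestrict hy
    rw [h, Subgroup.mem_bot] at this
    exact actHom_yCT ((psiC_piC yCT).symm.trans (congrArg Subtype.val this))
  · intro y hyH
    have h2 : (⟨y, hyH⟩ : H) ∈ ((N.subgroupOf H).map psiC.rangeRestrict).comap psiC.rangeRestrict := by
      rw [h]; trivial
    rw [Subgroup.comap_map_eq, MonoidHom.ker_rangeRestrict, sup_eq_left.2 hker] at h2
    exact h2

theorem orderOf_xC : orderOf xC = 5 := by
  haveI : Fact (Nat.Prime 5) := ⟨Nat.prime_five⟩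
  refine orderOf_eq_prime xC_five fun h => ?_
  have h' := congrArg (fun g : Co0 => colsOf (g : Equiv.Perm leechLattice)) h
  simp only [OneMemClass.coe_one, colsOf_one] at h'
  rw [show colsOf (xC : Equiv.Perm leechLattice) = xMat from colsOf_xEl] at h'
  exact absurd (eqW_iff.2 h') (by rw [x_five.2]; decide)

theorem zJ_coe : (⟨(zJ : Equiv.Perm leechLattice), fiveJ_le zJ.2⟩ : Co0) = negEl * xC :=
  Subtype.ext (Equiv.ext fun v => by
    show (zJ : Equiv.Perm leechLattice) v = negEl • (xC • v)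
    rw [negEl_smul, zJ_apply]
    rfl)

/-- the centraliser of the subgroup of order three -/
noncomputable def centEquiv :
    Subgroup.centralizer ((Subgroup.zpowers xC : Subgroup Co0) : Set Co0) ≃* fiveJ where
  toFun g := ⟨((g : Co0) : Equiv.Perm leechLattice), (g : Co0).2,
    Subgroup.mem_centralizer_singleton_iff.2
      (congrArg Subtype.val (Subgroup.mem_centralizer_iff.1 g.2 xC (Subgroup.mem_zpowers xC))).symm⟩
  invFun g := ⟨⟨(g : Equiv.Perm leechLattice), fiveJ_le g.2⟩, Subgroup.mem_centralizer_iff.2 fun y hy => by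
    obtain ⟨m, rfl⟩ := Subgroup.mem_zpowers_iff.1 hy
    have h : Commute (⟨(g : Equiv.Perm leechLattice), fiveJ_le g.2⟩ : Co0) xC := Subtype.ext
      (Subgroup.mem_centralizer_singleton_iff.1 (Subgroup.mem_inf.1 g.2).2)
    exact (h.zpow_right m).symm⟩
  left_inv _ := rfl
  right_inv _ := rfl
  map_mul' _ _ := rfl

theorem sup_eq_zpowers :
    Subgroup.zpowers xC ⊔ Subgroup.center Co0 = Subgroup.zpowers (negEl * xC) := by
  have hn2 : negEl * negEl = 1 := Subtype.ext (Equiv.ext fun v => by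
    show negEl • (negEl • v) = v
    rw [negEl_smul, negEl_smul, neg_neg])
  have hc : Commute negEl xC := (Subgroup.mem_center_iff.1 negEl_central xC).symm
  have h6 : (negEl * xC) ^ 6 = xC := by
    rw [hc.mul_pow, show negEl ^ 6 = (negEl * negEl) * (negEl * negEl) * (negEl * negEl) by simp [pow_succ, mul_assoc],
      hn2, show xC ^ 6 = xC ^ 5 * xC from pow_succ xC 5, xC_five, one_mul, one_mul, one_mul, one_mul]
  have h5 : (negEl * xC) ^ 5 = negEl := by
    rw [hc.mul_pow, xC_five, show negEl ^ 5 = (negEl * negEl) * (negEl * negEl) * negEl by simp [pow_succ, mul_assoc],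
      hn2, one_mul, one_mul, mul_one]
  refine le_antisymm (sup_le (Subgroup.zpowers_le.2 ?_) fun c hc' => ?_)
    (Subgroup.zpowers_le.2 (mul_mem (Subgroup.mem_sup_right negEl_central)
      (Subgroup.mem_sup_left (Subgroup.mem_zpowers xC))))
  · have := Subgroup.npow_mem_zpowers (negEl * xC) 6; rwa [h6] at this
  · rcases eq_of_central hc' with rfl | rfl
    · exact one_mem _
    · have := Subgroup.npow_mem_zpowers (negEl * xC) 5; rwa [h5] at this

theorem subgroupOf_eq :
    (Subgroup.zpowers xC ⊔ Subgroup.center Co0).subgroupOf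
      (Subgroup.centralizer ((Subgroup.zpowers xC : Subgroup Co0) : Set Co0)) =
    zSub.comap centEquiv.toMonoidHom := by
  ext g
  rw [Subgroup.mem_subgroupOf, sup_eq_zpowers, ← zJ_coe, Subgroup.mem_comap, zSub,
    Subgroup.mem_zpowers_iff, Subgroup.mem_zpowers_iff]
  refine exists_congr fun m => ?_
  constructor
  · intro h
    refine Subtype.ext ?_
    rw [SubgroupClass.coe_zpow]
    have := congrArg Subtype.val h
    rw [SubgroupClass.coe_zpow] at this
    exact this
  · intro h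
    refine Subtype.ext ?_
    rw [SubgroupClass.coe_zpow]
    have := congrArg Subtype.val h
    rw [SubgroupClass.coe_zpow] at this
    exact this

end CfsgLib.Spor.FiveJ2
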